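import Groth.Agent.H80.Divisor.FormalIdeal
import Mathlib.RingTheory.Flat.FaithfullyFlat.Basic
import Mathlib.RingTheory.Ideal.KrullsHeightTheorem
import Mathlib.RingTheory.Localization.AtPrime.Basic
import Mathlib.RingTheory.UniqueFactorizationDomain.Basic
import Mathlib.RingTheory.Nakayama

/-!
# Parafactoriality in terms of ideals
-/

set_option autoImplicit false

universe u

open IsLocalRing

namespace Groth.Agent.H80.Divisor

section

variable {A : Type u} [CommRing A]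

/-- The ideal is generated by one of its elements at `p`. -/
def LocPrinAt (𝔟 p : Ideal A) : Prop :=
  ∃ e ∈ 𝔟, ∀ z ∈ 𝔟, ∃ s ∉ p, s * z ∈ Ideal.span {e}

theorem LocPrinAt.mono {𝔟 p q : Ideal A} (h : q ≤ p) (hp : LocPrinAt 𝔟 p) : LocPrinAt 𝔟 q := by
  obtain ⟨e, he, hz⟩ := hp
  exact ⟨e, he, fun z hz' => (hz z hz').imp fun s hs => ⟨fun hsq => hs.1 (h hsq), hs.2⟩⟩

theorem exists_common_notMem {p : Ideal A} [p.IsPrime] {𝔟 : Ideal A} (hfg : 𝔟.FG) {J : Ideal A}
    (h : ∀ z ∈ 𝔟, ∃ s ∉ p, s * z ∈ J) : ∃ s ∉ p, ∀ z ∈ 𝔟, s * z ∈ J := by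
  classical
  obtain ⟨G, rfl⟩ := hfg
  choose! s hs₁ hs₂ using h
  refine ⟨∏ g ∈ G, s g, fun hp => ?_, fun z hz => ?_⟩
  · obtain ⟨g, hg, hgp⟩ := Ideal.IsPrime.prod_mem_iff.mp hp
    exact hs₁ g (Ideal.subset_span hg) hgp
  · induction hz using Submodule.span_induction with
    | mem g hg =>
      rw [← Finset.mul_prod_erase G s hg, mul_right_comm]
      exact Ideal.mul_mem_right _ _ (hs₂ g (Ideal.subset_span hg))
    | zero => simp
    | add x y _ _ hx hy => rw [mul_add]; exact add_mem hx hy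
    | smul c x _ hx => rw [smul_eq_mul, mul_left_comm]; exact Ideal.mul_mem_left _ _ hx

variable [IsLocalRing A]

/-- Saturation with respect to the maximal ideal. -/
def Saturated (𝔟 : Ideal A) : Prop := ∀ z, (∀ x ∈ maximalIdeal A, x * z ∈ 𝔟) → z ∈ 𝔟

variable (A) in
/-- Parafactoriality in terms of ideals containing a regular element. -/
def IdealPara : Prop :=
  ∀ 𝔟 : Ideal A, (∀ p : Ideal A, p.IsPrime → p ≠ maximalIdeal A → LocPrinAt 𝔟 p) →
    (∃ r ∈ 𝔟, IsSMulRegular A r) → Saturated 𝔟 → Submodule.IsPrincipal 𝔟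

theorem Saturated.mem_of_pow {𝔟 : Ideal A} (h : Saturated 𝔟) :
    ∀ (n : ℕ) (z : A), (∀ x ∈ maximalIdeal A ^ n, x * z ∈ 𝔟) → z ∈ 𝔟
  | 0, z, hz => by simpa using hz 1 (by simp)
  | n + 1, z, hz => h z fun y hy => Saturated.mem_of_pow h n _ fun x hx => by
      rw [← mul_assoc]
      exact hz _ (by rw [pow_succ]; exact Ideal.mul_mem_mul hx hy)

theorem IdealPara.of_ringEquiv {B : Type u} [CommRing B] [IsLocalRing B] (e : A ≃+* B)
    (h : IdealPara A) : IdealPara B := by
  intro 𝔟 hl ⟨r, hr, hreg⟩ hs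
  have := h (𝔟.comap e) (fun p hp hpm => ?_) ⟨e.symm r, (by change e (e.symm r) ∈ 𝔟; rwa [e.apply_symm_apply]), ?_⟩ (fun z hz => ?_)
  · obtain ⟨g, hg⟩ := this.principal
    refine ⟨e g, ?_⟩
    rw [← Ideal.map_comap_of_surjective e e.surjective 𝔟]
    change Ideal.map e (Ideal.comap e 𝔟) = Ideal.span {e g}
    rw [hg]
    change Ideal.map e (Ideal.span {g}) = _
    rw [Ideal.map_span, Set.image_singleton]
  · have hq : (p.comap e.symm).IsPrime := Ideal.IsPrime.comap _
    obtain ⟨g, hg, hgz⟩ := hl (p.comap e.symm) hq fun hc => hpm (by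
      ext x
      have := SetLike.ext_iff.mp hc (e x)
      simp only [Ideal.mem_comap, RingEquiv.symm_apply_apply, mem_maximalIdeal, mem_nonunits_iff] at this
      rw [this, mem_maximalIdeal, mem_nonunits_iff, MulEquiv.isUnit_map])
    refine ⟨e.symm g, (by change e (e.symm g) ∈ 𝔟; rwa [e.apply_symm_apply]), fun z hz => ?_⟩
    obtain ⟨s, hs₁, hs₂⟩ := hgz (e z) hz
    refine ⟨e.symm s, hs₁, ?_⟩
    obtain ⟨c, hc⟩ := Ideal.mem_span_singleton'.mp hs₂
    exact Ideal.mem_span_singleton'.mpr ⟨e.symm c, by rw [← map_mul, hc, map_mul, e.symm_apply_apply]⟩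
  · intro x y hxy
    have := congrArg e hxy
    simp only [smul_eq_mul, map_mul, RingEquiv.apply_symm_apply] at this
    exact e.injective (hreg this)
  · refine hs (e z) fun x hx => ?_
    have := hz (e.symm x) (by simpa using hx)
    simpa using this

end

/-- Descent along a faithfully flat local map with trivial closed fibre. -/
theorem IdealPara.of_flat {A A' : Type u} [CommRing A] [IsNoetherianRing A] [IsLocalRing A]
    [CommRing A'] [IsLocalRing A'] [Algebra A A'] [Module.FaithfullyFlat A A']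
    (hm : (maximalIdeal A).map (algebraMap A A') = maximalIdeal A') (h : IdealPara A') :
    IdealPara A := by
  intro 𝔟 hl ⟨r, hr, hreg⟩ hs
  let φ := algebraMap A A'
  have hh := h (𝔟.map φ) (fun P hP hPm => ?_) ⟨φ r, Ideal.mem_map_of_mem _ hr, ?_⟩ ?_
  · obtain ⟨g, hg⟩ := hh.principal
    change 𝔟.map φ = Ideal.span {g} at hg
    classical
    obtain ⟨G, hG⟩ := (IsNoetherian.noetherian 𝔟)
    have hgen : 𝔟.map φ = Ideal.span (φ '' G) := by
      rw [← Ideal.map_span]; exact congrArg (Ideal.map φ) hG.symm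
    have hc : ∀ b ∈ (G : Set A), ∃ c, φ b = c * g := fun b hb => by
      have : φ b ∈ Ideal.span {g} := hg ▸ Ideal.mem_map_of_mem _ (hG ▸ Ideal.subset_span hb)
      exact (Ideal.mem_span_singleton'.mp this).imp fun c hc => hc.symm
    by_cases hu : ∃ b ∈ (G : Set A), ∃ c : A', IsUnit c ∧ φ b = c * g
    · obtain ⟨b, hb, c, hcu, hbc⟩ := hu
      refine ⟨b, ?_⟩
      change 𝔟 = Ideal.span {b}
      rw [← Ideal.comap_map_eq_self_of_faithfullyFlat (B := A') 𝔟,
        ← Ideal.comap_map_eq_self_of_faithfullyFlat (B := A') (Ideal.span {b})]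
      congr 1
      rw [Ideal.map_span, Set.image_singleton]
      exact hg.trans (by rw [show (algebraMap A A') b = c * g from hbc, Ideal.span_singleton_mul_left_unit hcu])
    · push Not at hu
      have hle : 𝔟.map φ ≤ maximalIdeal A' * 𝔟.map φ := by
        conv_lhs => rw [hgen]
        rw [Ideal.span_le]
        rintro _ ⟨b, hb, rfl⟩
        obtain ⟨c, hc⟩ := hc b hb
        rw [SetLike.mem_coe, hc]
        refine Ideal.mul_mem_mul ?_ (hg ▸ Ideal.mem_span_singleton_self g)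
        rw [mem_maximalIdeal, mem_nonunits_iff]
        exact fun hcu => hu b hb c hcu hc
      have hz : 𝔟.map φ = ⊥ := Submodule.eq_bot_of_le_smul_of_le_jacobson_bot (maximalIdeal A') _
        (by rw [hgen]; exact Submodule.fg_span (G.finite_toSet.image _)) hle (maximalIdeal_le_jacobson _)
      refine ⟨0, ?_⟩
      change 𝔟 = Ideal.span {0}
      rw [← Ideal.comap_map_eq_self_of_faithfullyFlat (B := A') 𝔟,
        ← Ideal.comap_map_eq_self_of_faithfullyFlat (B := A') (Ideal.span {0})]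
      congr 1
      simpa using hz
  · have := hP.comap φ
    obtain ⟨e, he, hez⟩ := hl (P.comap φ) inferInstance fun hc => hPm
      ((le_maximalIdeal hP.ne_top).antisymm (hm ▸ Ideal.map_le_iff_le_comap.mpr hc.ge))
    obtain ⟨s, hs₁, hs₂⟩ := exists_common_notMem (IsNoetherian.noetherian 𝔟) hez
    refine ⟨φ e, Ideal.mem_map_of_mem _ he, fun z hz => ⟨φ s, hs₁, ?_⟩⟩
    refine Submodule.span_induction (fun y hy => ?_) ?_ (fun x y _ _ hx hy => ?_) (fun c x _ hx => ?_) hz
    · obtain ⟨b, hb, rfl⟩ := hy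
      rw [← map_mul, ← Set.image_singleton, ← Ideal.map_span]
      exact Ideal.mem_map_of_mem _ (hs₂ b hb)
    · simp
    · rw [mul_add]; exact add_mem hx hy
    · rw [smul_eq_mul, mul_left_comm]; exact Ideal.mul_mem_left _ _ hx
  · have hinj : Function.Injective (LinearMap.lTensor A' (LinearMap.mulLeft A r)) :=
      Module.Flat.lTensor_preserves_injective_linearMap (M := A') _ hreg
    intro x y hxy
    have h2 : LinearMap.lTensor A' (LinearMap.mulLeft A r) (x ⊗ₜ[A] (1 : A)) =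
        LinearMap.lTensor A' (LinearMap.mulLeft A r) (y ⊗ₜ[A] (1 : A)) := by
      apply (TensorProduct.rid A A').injective
      simp only [LinearMap.lTensor_tmul, LinearMap.mulLeft_apply, TensorProduct.rid_tmul, mul_one,
        Algebra.smul_def]
      exact hxy
    simpa using congrArg (TensorProduct.rid A A') (hinj h2)
  · classical
    obtain ⟨G, hG⟩ := (IsNoetherian.noetherian (maximalIdeal A))
    let ψ : (A ⧸ 𝔟) →ₗ[A] (G → A ⧸ 𝔟) := LinearMap.pi fun t => LinearMap.lsmul A (A ⧸ 𝔟) t.1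
    have hψ : Function.Injective ψ := by
      rw [injective_iff_map_eq_zero]
      intro v hv
      obtain ⟨v, rfl⟩ := Ideal.Quotient.mk_surjective v
      refine Ideal.Quotient.eq_zero_iff_mem.mpr (hs v fun x hx => ?_)
      rw [← hG] at hx
      induction hx using Submodule.span_induction with
      | mem x hx =>
        have h2 := congrFun hv ⟨x, hx⟩
        exact Ideal.Quotient.eq_zero_iff_mem.mp h2
      | zero => simp
      | add x y _ _ hx hy => rw [add_mul]; exact add_mem hx hy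
      | smul c x _ hx => rw [smul_eq_mul, mul_assoc]; exact Ideal.mul_mem_left _ _ hx
    intro z hz
    have h1 := Module.Flat.lTensor_preserves_injective_linearMap (M := A') ψ hψ
    let e := Algebra.TensorProduct.quotIdealMapEquivTensorQuot A' 𝔟
    have h2 : LinearMap.lTensor A' ψ (z ⊗ₜ[A] (1 : A ⧸ 𝔟)) = LinearMap.lTensor A' ψ 0 := by
      rw [map_zero]
      apply (TensorProduct.piRight A A A' (fun _ : G => A ⧸ 𝔟)).injective
      funext t
      rw [map_zero, Pi.zero_apply, LinearMap.lTensor_tmul, TensorProduct.piRight_apply,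
        TensorProduct.piRightHom_tmul]
      change z ⊗ₜ[A] ((t : A) • (1 : A ⧸ 𝔟)) = 0
      rw [← TensorProduct.smul_tmul, Algebra.smul_def]
      have h3 : Ideal.Quotient.mk (𝔟.map φ) (φ t * z) = 0 :=
        Ideal.Quotient.eq_zero_iff_mem.mpr (hz _ (hm ▸ Ideal.mem_map_of_mem _ (hG ▸ Ideal.subset_span t.2)))
      have h4 := congrArg e h3
      rw [map_zero] at h4
      exact h4
    have h5 := h1 h2
    exact Ideal.Quotient.eq_zero_iff_mem.mp
      (e.injective (h5.trans (map_zero e).symm) : Ideal.Quotient.mk (𝔟.map φ) z = 0)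

/-- Factorial rings. -/
theorem idealPara_of_ufd {A : Type u} [CommRing A] [IsDomain A] [IsNoetherianRing A] [IsLocalRing A]
    [UniqueFactorizationMonoid A] : IdealPara A := by
  intro 𝔟 hl ⟨r, hr, hreg⟩ hs
  have hr0 : r ≠ 0 := fun h => by
    subst h; exact zero_ne_one ((hreg (show (0 : A) • (0 : A) = 0 • (1 : A) by simp)))
  let Sset : Set (Ideal A) := {𝔠 | ∃ d : A, 𝔟 = Ideal.span {d} * 𝔠}
  obtain ⟨𝔠, ⟨d, hd⟩, hmax⟩ := set_has_maximal_iff_noetherian.mpr inferInstance Sset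
    ⟨𝔟, 1, by simp⟩
  have hd0 : d ≠ 0 := fun h => by
    subst h
    rw [Ideal.span_singleton_zero, Ideal.bot_mul] at hd
    rw [hd] at hr
    exact hr0 hr
  have hc0 : 𝔠 ≠ ⊥ := fun h => by
    rw [h, Ideal.mul_bot] at hd
    rw [hd] at hr
    exact hr0 hr
  refine ⟨d, ?_⟩
  change 𝔟 = Ideal.span {d}
  suffices h : 𝔠 = ⊤ by rw [hd, h, Ideal.mul_top]
  have hsat : Saturated 𝔠 := fun z hz => by
    have h1 : d * z ∈ 𝔟 := hs _ fun x hx => by
      rw [mul_left_comm, hd]
      exact Ideal.mul_mem_mul (Ideal.mem_span_singleton_self d) (hz x hx)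
    rw [hd, Ideal.mem_span_singleton_mul] at h1
    obtain ⟨w, hw, hwz⟩ := h1
    rwa [← mul_left_cancel₀ hd0 hwz]
  by_cases hrad : maximalIdeal A ≤ Ideal.radical 𝔠
  · obtain ⟨n, hn⟩ := Ideal.exists_pow_le_of_le_radical_of_fg hrad (IsNoetherian.noetherian _)
    exact (Ideal.eq_top_iff_one _).mpr (hsat.mem_of_pow n 1 fun x hx => by simpa using hn hx)
  exfalso
  rw [Ideal.radical_eq_sInf, le_sInf_iff] at hrad
  push Not at hrad
  obtain ⟨p, ⟨hcp, hp⟩, hmp⟩ := hrad
  obtain ⟨e, he, hez⟩ := hl p hp fun h => hmp h.ge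
  rw [hd, Ideal.mem_span_singleton_mul] at he
  obtain ⟨e', he', rfl⟩ := he
  have hloc : ∀ z ∈ 𝔠, ∃ s ∉ p, e' ∣ s * z := fun z hz => by
    obtain ⟨s, hs₁, hs₂⟩ := hez (d * z) (by
      rw [hd]; exact Ideal.mul_mem_mul (Ideal.mem_span_singleton_self d) hz)
    obtain ⟨c, hc⟩ := Ideal.mem_span_singleton'.mp hs₂
    exact ⟨s, hs₁, c, mul_left_cancel₀ hd0 (by linear_combination -hc)⟩
  have he0 : e' ≠ 0 := fun h => by
    obtain ⟨z, hz, hz0⟩ := Submodule.exists_mem_ne_zero_of_ne_bot hc0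
    obtain ⟨s, hs₁, hs₂⟩ := hloc z hz
    rw [h, zero_dvd_iff, mul_eq_zero] at hs₂
    rcases hs₂ with h2 | h2
    · exact hs₁ (h2 ▸ zero_mem _)
    · exact hz0 h2
  obtain ⟨π, hπ, hπp, hπe⟩ : ∃ π, Prime π ∧ π ∈ p ∧ π ∣ e' := by
    obtain ⟨F, hF, hFe⟩ := UniqueFactorizationMonoid.exists_prime_factors e' he0
    have hmem : F.prod ∈ p := by
      obtain ⟨v, hv⟩ := hFe
      have : F.prod * v ∈ p := hv ▸ hcp he'
      exact ((hp.mem_or_mem this).resolve_right fun h => hp.ne_top (p.eq_top_of_isUnit_mem h v.isUnit))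
    obtain ⟨π, hπF, hπp⟩ := (hp.multiset_prod_mem_iff_exists_mem F).mp hmem
    exact ⟨π, hF π hπF, hπp, (Multiset.dvd_prod hπF).trans hFe.dvd⟩
  let 𝔠' : Ideal A := 𝔠.comap (LinearMap.mulLeft A π)
  have hdiv : ∀ z ∈ 𝔠, π ∣ z := fun z hz => by
    obtain ⟨s, hs₁, hs₂⟩ := hloc z hz
    exact (hπ.dvd_or_dvd (hπe.trans hs₂)).resolve_left fun h => hs₁ (Ideal.mem_of_dvd _ h hπp)
  have heq : 𝔠 = Ideal.span {π} * 𝔠' := by
    ext z
    rw [Ideal.mem_span_singleton_mul]
    refine ⟨fun hz => ?_, ?_⟩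
    · obtain ⟨w, rfl⟩ := hdiv z hz
      exact ⟨w, hz, rfl⟩
    · rintro ⟨w, hw, rfl⟩; exact hw
  refine hmax 𝔠' ⟨d * π, by rw [hd, heq, ← mul_assoc, Ideal.span_singleton_mul_span_singleton]⟩ ?_
  refine lt_of_le_of_ne (fun z hz => (Ideal.mul_mem_left _ π hz : π * z ∈ 𝔠)) fun h => ?_
  refine hc0 (Submodule.eq_bot_of_le_smul_of_le_jacobson_bot (Ideal.span {π}) 𝔠
    (IsNoetherian.noetherian _) ?_ ?_)
  · rw [smul_eq_mul]; conv_lhs => rw [heq, ← h]
  · exact ((Ideal.span_singleton_le_iff_mem _).mpr hπp).trans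
      ((le_maximalIdeal hp.ne_top).trans (maximalIdeal_le_jacobson _))

section Extension

variable {A : Type u} [CommRing A] [IsNoetherianRing A] [IsLocalRing A]

theorem exists_prime_ge_between {p : Ideal A} [p.IsPrime] {q : Ideal A} [q.IsPrime] (hpq : p < q)
    (hq : q ≠ maximalIdeal A) {f : A} (hf : f ∈ maximalIdeal A) :
    ∃ P : Ideal A, P.IsPrime ∧ p ≤ P ∧ f ∈ P ∧ P ≠ maximalIdeal A := by
  by_contra h
  push Not at h
  let π := Ideal.Quotient.mk p
  have : IsLocalRing (A ⧸ p) := IsLocalRing.of_surjective' _ Ideal.Quotient.mk_surjective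
  have : IsLocalHom π := IsLocalHom.of_surjective π Ideal.Quotient.mk_surjective
  have hmin : maximalIdeal (A ⧸ p) ∈ (Ideal.span {π f}).minimalPrimes := by
    refine ⟨⟨inferInstance, (Ideal.span_singleton_le_iff_mem _).mpr ?_⟩, fun J hJ _ => ?_⟩
    · rw [mem_maximalIdeal, mem_nonunits_iff]
      intro hu
      exact hf (isUnit_of_map_unit π f hu)
    · have := hJ.1
      have h1 := h (J.comap π) inferInstance (fun x hx => by
        rw [Ideal.mem_comap, show π x = 0 from Ideal.Quotient.eq_zero_iff_mem.mpr hx]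
        exact zero_mem _) (hJ.2 (Ideal.mem_span_singleton_self _))
      rw [← Ideal.map_comap_of_surjective π Ideal.Quotient.mk_surjective (maximalIdeal _),
        ← Ideal.map_comap_of_surjective π Ideal.Quotient.mk_surjective J, h1]
      exact Ideal.map_mono (le_maximalIdeal (Ideal.comap_ne_top π (Ideal.IsMaximal.ne_top inferInstance)))
  have hh := Ideal.height_le_one_of_isPrincipal_of_mem_minimalPrimes (Ideal.span {π f}) _ hmin
  have hker : RingHom.ker π ≤ q := by rw [Ideal.mk_ker]; exact hpq.le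
  have := Ideal.map_isPrime_of_surjective (f := π) Ideal.Quotient.mk_surjective hker
  have hcm : ((q.map π).comap π) = q := by
    rw [Ideal.comap_map_of_surjective π Ideal.Quotient.mk_surjective, ← RingHom.ker_eq_comap_bot]
    exact sup_eq_left.mpr hker
  have h0 : (⊥ : Ideal (A ⧸ p)) < q.map π := bot_lt_iff_ne_bot.mpr fun hb => hpq.ne (by
    rw [← hcm, hb, ← RingHom.ker_eq_comap_bot, Ideal.mk_ker])
  have h1 : q.map π < maximalIdeal (A ⧸ p) := lt_of_le_of_ne (le_maximalIdeal this.ne_top) fun hb => hq (by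
    refine (le_maximalIdeal (Ideal.IsPrime.ne_top ‹_›)).antisymm fun x hx => ?_
    rw [← hcm, hb, Ideal.mem_comap, mem_maximalIdeal, mem_nonunits_iff]
    exact fun hu => hx (isUnit_of_map_unit π x hu))
  have := Ideal.isPrime_bot (α := A ⧸ p)
  have e1 := Ideal.height_strict_mono_of_isPrime h0
  have e2 := Ideal.height_strict_mono_of_isPrime h1
  have e3 : (maximalIdeal (A ⧸ p)).height ≤ 1 := hh
  have e4 : (q.map π).height < 1 := e2.trans_le e3
  rw [ENat.lt_one_iff_eq_zero] at e4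
  rw [e4] at e1
  exact not_lt_bot e1

/-- Saturating an ideal which is locally principal along `V(f)`. -/
theorem exists_saturation (f : A) (hf : f ∈ maximalIdeal A) (𝔞 : Ideal A)
    (hgood : ∀ p : Ideal A, p.IsPrime → f ∈ p → p ≠ maximalIdeal A → LocPrinAt 𝔞 p)
    (hreg : ∃ r ∈ 𝔞, IsSMulRegular A r)
    (hbad : ∀ q : Ideal A, [q.IsPrime] → f ∉ q → q ≠ maximalIdeal A →
      (∀ p : Ideal A, p.IsPrime → q < p → p = maximalIdeal A) → IdealPara (Localization.AtPrime q)) :
    ∃ 𝔟 : Ideal A, 𝔞 ≤ 𝔟 ∧ Saturated 𝔟 ∧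
      (∀ p : Ideal A, p.IsPrime → p ≠ maximalIdeal A → LocPrinAt 𝔟 p) ∧
      ∀ p : Ideal A, p.IsPrime → f ∈ p → p ≠ maximalIdeal A → ∀ z ∈ 𝔟, ∃ s ∉ p, s * z ∈ 𝔞 := by
  let Good : Ideal A → Prop := fun p => p.IsPrime ∧ p ≠ maximalIdeal A ∧ LocPrinAt 𝔞 p
  have htop : ∀ {q p : Ideal A}, q.IsPrime → q ≠ maximalIdeal A → ¬ Good q → p.IsPrime → q < p →
      p = maximalIdeal A := by
    intro q p hq hqm hng hp hlt
    by_contra hpm
    obtain ⟨P, hP, hle, hfP, hPm⟩ := exists_prime_ge_between hlt hpm hf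
    exact hng ⟨hq, hqm, (hgood P hP hfP hPm).mono hle⟩
  let 𝔟 : Ideal A :=
    { carrier := {z | ∀ p, Good p → ∃ s ∉ p, s * z ∈ 𝔞}
      add_mem' := fun {x y} hx hy p hp => by
        obtain ⟨s, hs, hsx⟩ := hx p hp
        obtain ⟨t, ht, hty⟩ := hy p hp
        have := hp.1
        refine ⟨s * t, fun h => ((Ideal.IsPrime.mem_or_mem this h).elim hs ht), ?_⟩
        rw [mul_add, mul_right_comm s t x, mul_assoc s t y]
        exact add_mem (Ideal.mul_mem_right _ _ hsx) (Ideal.mul_mem_left _ _ hty)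
      zero_mem' := fun p hp => ⟨1, hp.1.ne_top ∘ (Ideal.eq_top_iff_one p).mpr, by simp⟩
      smul_mem' := fun c x hx p hp => by
        obtain ⟨s, hs, hsx⟩ := hx p hp
        exact ⟨s, hs, by rw [smul_eq_mul, mul_left_comm]; exact Ideal.mul_mem_left _ _ hsx⟩ }
  have hle : 𝔞 ≤ 𝔟 := fun z hz p hp => ⟨1, hp.1.ne_top ∘ (Ideal.eq_top_iff_one p).mpr, by simpa using hz⟩
  refine ⟨𝔟, hle, fun z hz p hp => ?_, fun p hp hpm => ?_, fun p hp hfp hpm z hz =>
    hz p ⟨hp, hpm, hgood p hp hfp hpm⟩⟩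
  · obtain ⟨x, hxm, hxp⟩ : ∃ x ∈ maximalIdeal A, x ∉ p := by
      by_contra h
      push Not at h
      exact hp.2.1 ((le_maximalIdeal hp.1.ne_top).antisymm h)
    obtain ⟨s, hs, hsz⟩ := hz x hxm p hp
    exact ⟨s * x, fun h => (hp.1.mem_or_mem h).elim hs hxp, by rwa [mul_assoc]⟩
  by_cases hg : Good p
  · obtain ⟨e, he, hez⟩ := hg.2.2
    refine ⟨e, hle he, fun z hz => ?_⟩
    obtain ⟨s, hs, hsz⟩ := hz p hg
    obtain ⟨t, ht, htz⟩ := hez _ hsz
    exact ⟨t * s, fun h => (hp.mem_or_mem h).elim ht hs, by rwa [mul_assoc]⟩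
  have hfp : f ∉ p := fun h => hg ⟨hp, hpm, hgood p hp h hpm⟩
  let R := Localization.AtPrime p
  let φ := algebraMap A R
  have hJmem : ∀ {z : A}, φ z ∈ 𝔟.map φ → ∃ s ∉ p, s * z ∈ 𝔟 := fun {z} hz => by
    obtain ⟨⟨w, t⟩, hwt⟩ := (IsLocalization.mem_map_algebraMap_iff p.primeCompl R).mp hz
    rw [← map_mul] at hwt
    obtain ⟨c, hc⟩ := (IsLocalization.eq_iff_exists p.primeCompl R).mp hwt
    refine ⟨c * t, fun h => (hp.mem_or_mem h).elim c.2 t.2, ?_⟩
    rw [mul_assoc, mul_comm (t : A) z, hc]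
    exact Ideal.mul_mem_left _ _ w.2
  have hprin := hbad p hfp hpm (fun P hP hlt => htop hp hpm hg hP hlt) (𝔟.map φ) (fun P hP hPm => ?_)
    ?_ ?_
  · obtain ⟨g, hgI⟩ := hprin.principal
    change 𝔟.map φ = Ideal.span {g} at hgI
    obtain ⟨⟨w, t⟩, hwt⟩ := (IsLocalization.mem_map_algebraMap_iff p.primeCompl R).mp
      (hgI ▸ Ideal.mem_span_singleton_self g : g ∈ 𝔟.map φ)
    refine ⟨w, w.2, fun z hz => ?_⟩
    have hz' : φ z ∈ Ideal.span {g} := hgI ▸ Ideal.mem_map_of_mem _ hz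
    obtain ⟨c, hc⟩ := Ideal.mem_span_singleton'.mp hz'
    obtain ⟨⟨c', t'⟩, hc'⟩ := IsLocalization.surj p.primeCompl c
    have h2 : φ ((t : A) * t' * z) = φ (c' * w) := by
      simp only [map_mul, φ] at hwt hc hc' ⊢
      linear_combination (algebraMap A R w) * hc' + (algebraMap A R t' * c) * hwt -
        (algebraMap A R t * algebraMap A R t') * hc
    obtain ⟨d, hd⟩ := (IsLocalization.eq_iff_exists p.primeCompl R).mp h2
    refine ⟨d * (t * t'), (d * (t * t')).2, ?_⟩
    rw [mul_assoc, hd, ← mul_assoc]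
    exact Ideal.mul_mem_left _ _ (Ideal.mem_span_singleton_self _)
  · have := hP.comap φ
    have hlt : P.comap φ < p := lt_of_le_of_ne (by
      intro x hx
      by_contra hxp
      exact hP.ne_top (P.eq_top_of_isUnit_mem hx (IsLocalization.map_units R (⟨x, hxp⟩ : p.primeCompl))))
      fun h => hPm (by
        rw [← IsLocalization.map_comap p.primeCompl R P, ← IsLocalization.map_comap p.primeCompl R (maximalIdeal R)]
        exact congrArg (Ideal.map φ) (h.trans (IsLocalization.AtPrime.comap_maximalIdeal R p).symm))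
    have hGq : Good (P.comap φ) := by
      refine ⟨inferInstance, fun h => ?_, ?_⟩
      · exact absurd (h ▸ hlt) (fun h' => h'.not_ge (le_maximalIdeal hp.ne_top))
      · by_contra hng
        exact hpm (htop inferInstance
          (fun h => absurd (h ▸ hlt) (fun h' => h'.not_ge (le_maximalIdeal hp.ne_top)))
          (fun hG => hng hG.2.2) hp hlt)
    obtain ⟨e, he, hez⟩ := hGq.2.2
    refine ⟨φ e, Ideal.mem_map_of_mem _ (hle he), fun z hz => ?_⟩
    obtain ⟨⟨w, t⟩, hwt⟩ := (IsLocalization.mem_map_algebraMap_iff p.primeCompl R).mp hz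
    obtain ⟨s, hs, hsw⟩ := w.2 _ hGq
    obtain ⟨s', hs', hsw'⟩ := hez _ hsw
    obtain ⟨c, hc⟩ := Ideal.mem_span_singleton'.mp hsw'
    refine ⟨φ (s' * s * t), fun h => ?_, Ideal.mem_span_singleton'.mpr ⟨φ c, ?_⟩⟩
    · rcases hGq.1.mem_or_mem (show s' * s * t ∈ P.comap φ from h) with h | h
      · exact (hGq.1.mem_or_mem h).elim hs' hs
      · exact t.2 (hlt.le h)
    · have := congrArg φ hc
      simp only [map_mul, φ] at this hwt ⊢
      linear_combination this - algebraMap A R s' * algebraMap A R s * hwt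
  · obtain ⟨r, hr, hrr⟩ := hreg
    refine ⟨φ r, Ideal.mem_map_of_mem _ (hle hr), ?_⟩
    rw [isSMulRegular_iff_right_eq_zero_of_smul] at hrr ⊢
    intro x hx
    obtain ⟨⟨y, t⟩, hy⟩ := IsLocalization.surj p.primeCompl x
    rw [smul_eq_mul] at hx
    have h2 : φ (r * y) = 0 := by rw [map_mul, ← hy, ← mul_assoc, hx, zero_mul]
    obtain ⟨c, hc⟩ := (IsLocalization.map_eq_zero_iff p.primeCompl R _).mp h2
    have h3 : (c : A) * y = 0 := hrr _ (by rw [smul_eq_mul]; linear_combination hc)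
    have h4 : φ y = 0 := (IsLocalization.map_eq_zero_iff p.primeCompl R _).mpr ⟨c, h3⟩
    rw [h4] at hy
    exact (IsLocalization.map_units R t).mul_left_eq_zero.mp hy
  · intro z hz
    obtain ⟨⟨y, t⟩, hy⟩ := IsLocalization.surj p.primeCompl z
    obtain ⟨s, hs, hsy⟩ := exists_common_notMem (IsNoetherian.noetherian p)
      (J := Submodule.comap (LinearMap.mulRight A y) 𝔟) fun x hx => by
        have hxm : φ x ∈ maximalIdeal R := (IsLocalization.AtPrime.to_map_mem_maximal_iff R p x).mpr hx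
        have h2 : φ (x * y) ∈ 𝔟.map φ := by
          rw [map_mul, ← hy, ← mul_assoc]
          exact Ideal.mul_mem_right _ _ (hz _ hxm)
        obtain ⟨s, hs, hsxy⟩ := hJmem h2
        exact ⟨s, hs, show s * x * y ∈ 𝔟 by rwa [mul_assoc]⟩
    have hsy' : s * y ∈ 𝔟 := fun q hq => by
      have hnle : ¬ p ≤ q := fun hpq => hq.2.1 (htop hp hpm hg hq.1
        (lt_of_le_of_ne hpq fun h => hg (h ▸ hq)))
      obtain ⟨x, hx, hxq⟩ := Set.not_subset.mp hnle
      obtain ⟨s', hs', hsx⟩ := (show s * x * y ∈ 𝔟 from hsy x hx) q hq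
      exact ⟨s' * x, fun h => (hq.1.mem_or_mem h).elim hs' hxq, by convert hsx using 1; ring⟩
    refine (Ideal.unit_mul_mem_iff_mem _ ((IsLocalization.map_units R (⟨s, hs⟩ : p.primeCompl)).mul
      (IsLocalization.map_units R t))).mp ?_
    rw [mul_assoc, mul_comm (algebraMap A R t) z, hy, ← map_mul]
    exact Ideal.mem_map_of_mem _ hsy'

end Extension

end Groth.Agent.H80.Divisor
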