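import Groth.Agent.H80.Clopen.LinePunctured
import Groth.Agent.H80.Divisor.Para

/-!
# From parafactoriality of ideals to trivial Picard groups
-/

set_option autoImplicit false
set_option backward.isDefEq.respectTransparency false

universe u

open CategoryTheory CategoryTheory.Limits AlgebraicGeometry IsLocalRing TopologicalSpace Opposite
open Groth.Agent.Lib Groth.Agent.Lib.TensorMod Groth.Agent.Lib.TensorMod.Dual
open Groth.Agent.Lib.TensorMod.Gen Groth.Agent.Lib.TensorMod.Pullback Groth.Agent.Lib.Ample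
open Groth.Agent.Lib.Ample.GenLocus

namespace Groth.Agent.H80.Divisor

open Groth.Agent.H80.Clopen

theorem exists_generator_of_idealPara {A : Type u} [CommRing A] [IsNoetherianRing A] [IsLocalRing A]
    (hA : IdealPara A) {ι : Type} [Finite ι] {a : ι → A}
    (ha : maximalIdeal A ≤ (Ideal.span (Set.range a)).radical) (ham : ∀ i, a i ∈ maximalIdeal A)
    {M : Type u} [AddCommGroup M] [Module A M] (D : LineData a M) (hs : Sep a M ⊥) (hg : Glue a M ⊥)
    (hBs : Sep a A ⊥) : ∃ x : M, ∀ y : M, ∃ c : A, y = c • x := by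
  classical
  have hbu := biUnion_associatedPrimes_eq_compl_regular A A
  obtain ⟨Ass, hAss⟩ := (associatedPrimes.finite A A).exists_finset_coe
  have hAssp : ∀ Q ∈ Ass, Q.IsPrime := fun Q hQ => IsAssociatedPrime.isPrime (hAss.le (Finset.mem_coe.mpr hQ))
  have hregI : ∀ I : Ideal A, (∀ Q ∈ Ass, ¬ I ≤ Q) → ∃ r ∈ I, IsSMulRegular A r := by
    intro I hI
    by_contra h
    push Not at h
    have hsub : (I : Set A) ⊆ ⋃ Q ∈ (↑Ass : Set (Ideal A)), (Q : Set A) := fun r hr => by
      obtain ⟨Q, hQ, hrQ⟩ := Set.mem_iUnion₂.mp (hbu.ge (h r hr))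
      exact Set.mem_iUnion₂.mpr ⟨Q, hAss.ge hQ, hrQ⟩
    obtain ⟨Q, hQ, hIQ⟩ := (Ideal.subset_union_prime (s := Ass) (f := id) ⊥ ⊥
      fun Q hQ _ _ => hAssp Q hQ).mp (by simpa using hsub)
    exact hI Q hQ hIQ
  have hcov : ∀ P : Ideal A, P.IsPrime → P ≠ maximalIdeal A → ∃ i, a i ∉ P := fun P hP hPm => by
    by_contra h
    push Not at h
    exact hPm ((le_maximalIdeal hP.ne_top).antisymm (ha.trans (hP.radical_le_iff.mpr
      (Ideal.span_le.mpr (Set.range_subset_iff.mpr h)))))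
  have hQm : ∀ Q ∈ Ass, Q ≠ maximalIdeal A := fun Q hQ h => by
    obtain ⟨hQp, w, hw⟩ := isAssociatedPrime_iff.mp (hAss.le (Finset.mem_coe.mpr hQ))
    have hw0 : w = 0 := by
      have := hBs w fun i => ⟨1, by
        have h1 : a i ∈ Q := h ▸ ham i
        rw [hw, Submodule.mem_colon_singleton] at h1
        simpa using h1⟩
      simpa using this
    refine hQp.ne_top ((Ideal.eq_top_iff_one Q).mpr ?_)
    rw [hw, hw0, Submodule.mem_colon_singleton]
    simp
  let Mx : Finset (Ideal A) := Ass.filter fun Q => ∀ Q' ∈ Ass, Q ≤ Q' → Q = Q'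
  have hle : ∀ Q ∈ Ass, ∃ Q' ∈ Mx, Q ≤ Q' := fun Q hQ => by
    obtain ⟨Q', hle, hmax⟩ := Ass.exists_le_maximal hQ
    exact ⟨Q', Finset.mem_filter.mpr ⟨hmax.1, fun P hP hPle => le_antisymm hPle (hmax.2 hP hPle)⟩, hle⟩
  have : Nonempty ι := not_isEmpty_iff.mp fun hι => by
    have := hBs 1 fun j => isEmptyElim j
    simp at this
  choose! i hi using fun Q (hQ : Q ∈ Mx) =>
    hcov Q (hAssp Q (Finset.mem_filter.mp hQ).1) (hQm Q (Finset.mem_filter.mp hQ).1)
  have hd : ∀ Q ∈ Mx, ∃ d, d ∈ ∏ Q' ∈ Mx.erase Q, Q' ∧ d ∉ Q := fun Q hQ => by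
    by_contra h
    push Not at h
    obtain ⟨Q', hQ', hle'⟩ := (Ideal.IsPrime.prod_le (hAssp Q (Finset.mem_filter.mp hQ).1)).mp h
    obtain ⟨hne, hQ'⟩ := Finset.mem_erase.mp hQ'
    exact hne ((Finset.mem_filter.mp hQ').2 Q (Finset.mem_filter.mp hQ).1 hle')
  choose! d hd₁ hd₂ using hd
  let ψ : M →ₗ[A] A := ∑ Q ∈ Mx, d Q • D.φ (i Q)
  have hψ : ∀ Q ∈ Mx, ψ (D.e (i Q)) ∉ Q := fun Q hQ h => by
    have hQp := hAssp Q (Finset.mem_filter.mp hQ).1
    simp only [ψ, LinearMap.sum_apply, LinearMap.smul_apply, smul_eq_mul] at h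
    rw [← Finset.add_sum_erase Mx _ hQ] at h
    have h2 : d Q * D.φ (i Q) (D.e (i Q)) ∈ Q := by
      refine (Submodule.add_mem_iff_left _ (sum_mem fun Q' hQ' => Ideal.mul_mem_right _ _ ?_)).mp h
      obtain ⟨hne, hQ'M⟩ := Finset.mem_erase.mp hQ'
      exact Ideal.le_of_dvd (Finset.dvd_prod_of_mem _ (Finset.mem_erase.mpr ⟨Ne.symm hne, hQ⟩))
        (hd₁ Q' hQ'M)
    rw [D.unit] at h2
    exact (hQp.mem_or_mem h2).elim (hd₂ Q hQ) fun h3 => hi Q hQ (hQp.mem_of_pow_mem _ h3)
  have hlin : ∀ j z, D.φ j z * ψ (D.e j) = a j ^ D.k * ψ z := fun j z => by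
    rw [← smul_eq_mul, ← map_smul, D.span, map_smul, smul_eq_mul]
  have hψinj : Function.Injective ψ := by
    rw [injective_iff_map_eq_zero]
    intro z hz
    obtain ⟨r, hr, hrr⟩ := hregI (LinearMap.ker ((LinearMap.id (R := A) (M := A)).smulRight z)) (by
      intro Q hQ hQle
      obtain ⟨Q', hQ', hle'⟩ := hle Q hQ
      have hQp := hAssp Q' (Finset.mem_filter.mp hQ').1
      have hmem : ψ (D.e (i Q')) * a (i Q') ^ D.k ∈ LinearMap.ker ((LinearMap.id (R := A) (M := A)).smulRight z) := by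
        simp only [LinearMap.mem_ker, LinearMap.smulRight_apply, LinearMap.id_apply]
        rw [mul_smul, ← D.span, smul_smul, mul_comm, hlin, hz, mul_zero, zero_smul]
      exact (hQp.mem_or_mem (hle' (hQle hmem))).elim (hψ Q' hQ')
        fun h3 => hi Q' hQ' (hQp.mem_of_pow_mem _ h3))
    simp only [LinearMap.mem_ker, LinearMap.smulRight_apply, LinearMap.id_apply] at hr
    have := hs z fun j => ⟨D.k, by
      have h1 : D.φ j z = 0 := hrr.right_eq_zero_of_smul (by rw [← map_smul, hr, map_zero])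
      simp [← D.span, h1]⟩
    simpa using this
  let 𝔟 : Ideal A := LinearMap.range ψ
  have hprin := hA 𝔟 (fun p hp hpm => by
      obtain ⟨j, hj⟩ := hcov p hp hpm
      refine ⟨ψ (D.e j), LinearMap.mem_range_self ψ _, ?_⟩
      rintro _ ⟨z, rfl⟩
      exact ⟨a j ^ D.k, fun h => hj (hp.mem_of_pow_mem _ h),
        Ideal.mem_span_singleton'.mpr ⟨D.φ j z, hlin j z⟩⟩)
    (hregI 𝔟 fun Q hQ hQle => by
      obtain ⟨Q', hQ', hle'⟩ := hle Q hQ
      exact hψ Q' hQ' (hle' (hQle (LinearMap.mem_range_self ψ _))))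
    (fun w hw => by
      choose z hz using fun j => hw (a j) (ham j)
      obtain ⟨x, hx⟩ := hg 1 z fun j l => ⟨0, by
        simp only [pow_zero, one_smul, Submodule.bot_smul, Submodule.mem_bot, pow_one, sub_eq_zero]
        exact hψinj (by rw [map_smul, map_smul, hz, hz, smul_eq_mul, smul_eq_mul]; ring)⟩
      refine ⟨x, sub_eq_zero.mp ?_⟩
      have := hBs (ψ x - w) fun j => by
        obtain ⟨l, hl⟩ := hx j
        refine ⟨l + 1, ?_⟩
        rw [Submodule.bot_smul, Submodule.mem_bot] at hl ⊢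
        have h2 := congrArg ψ hl
        rw [map_smul, map_sub, map_smul, map_zero, hz, smul_eq_mul, smul_eq_mul, pow_one] at h2
        rw [smul_eq_mul, pow_succ]
        linear_combination h2
      simpa using this)
  obtain ⟨g, hgspan⟩ := hprin.principal
  obtain ⟨x, hx⟩ := LinearMap.mem_range.mp (show g ∈ LinearMap.range ψ from
    (by change g ∈ 𝔟; rw [hgspan]; exact Submodule.mem_span_singleton_self g))
  refine ⟨x, fun y => ?_⟩
  obtain ⟨c, hc⟩ := Submodule.mem_span_singleton.mp (show ψ y ∈ Submodule.span A {g} by rw [← hgspan]; exact LinearMap.mem_range_self ψ y)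
  exact ⟨c, hψinj (by rw [map_smul, hx, hc])⟩

set_option maxHeartbeats 1000000 in
/-- Parafactoriality for ideals gives a trivial Picard group of the punctured spectrum. -/
theorem picTrivial_of_idealPara {A : Type u} [CommRing A] [IsNoetherianRing A] [IsLocalRing A]
    (hd : (2 : ℕ∞) ≤ LocCoh.depth A A) (hA : IdealPara A) :
    ParaF.PicTrivial (FEt.puncturedSpec A : Scheme.{u}) := by
  intro L hL
  let U := FEt.puncturedSpec A
  let S := Spec (CommRingCat.of A)
  -- frames
  have hframe : ∀ p : (U : Scheme.{u}), ∃ (b : A) (e : Γ(L, (U : Scheme.{u}).basicOpen (str U.ι b))),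
      p ∈ (U : Scheme.{u}).basicOpen (str U.ι b) ∧
      PrimeSpectrum.basicOpen b ≤ U ∧ IsGen L _ e := by
    intro p
    obtain ⟨W, e, hpW, he⟩ := isInvertible_iff.mp hL p
    obtain ⟨_, ⟨_, ⟨b, rfl⟩, rfl⟩, hpb, hbW⟩ := PrimeSpectrum.isBasis_basic_opens.exists_subset_of_mem_open
      (show U.ι.base p ∈ ((U.ι ''ᵁ W : S.Opens) : Set S) from ⟨p, hpW, rfl⟩) (U.ι ''ᵁ W).2
    have hle : (U : Scheme.{u}).basicOpen (str U.ι b) ≤ W := by
      rw [basicOpen_str]
      intro q hq
      obtain ⟨q', hq', h⟩ := hbW hq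
      exact (U.ι.isOpenEmbedding.injective h) ▸ hq'
    refine ⟨b, _, by rw [basicOpen_str]; exact hpb, fun q hq => ?_, he.res hle⟩
    obtain ⟨q', -, rfl⟩ := hbW hq
    exact q'.2
  choose b e hpb hbU he using hframe
  have hcompact : CompactSpace ↥(U : Scheme.{u}) := isCompact_iff_compactSpace.mp
    (TopologicalSpace.NoetherianSpace.isCompact (α := PrimeSpectrum A) _)
  have hqs : QuasiSeparatedSpace ↥(U : Scheme.{u}) := quasiSeparatedSpace_of_quasiSeparated U.ι
  obtain ⟨t, ht⟩ := CompactSpace.elim_nhds_subcover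
    (fun p => ((U : Scheme.{u}).basicOpen (str U.ι (b p)) : Set (U : Scheme.{u})))
    (fun p => IsOpen.mem_nhds (Opens.isOpen _) (hpb p))
  let a : Fin t.card → A := fun i => b (t.equivFin.symm i).1
  let V : Fin t.card → (U : Scheme.{u}).Opens := fun i => (U : Scheme.{u}).basicOpen (str U.ι (a i))
  have hcov : ∀ p : (U : Scheme.{u}), ∃ i, p ∈ V i := fun p => by
    have : p ∈ (⊤ : Set (U : Scheme.{u})) := trivial
    rw [← ht] at this
    obtain ⟨q, hq, hpq⟩ := Set.mem_iUnion₂.mp this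
    exact ⟨t.equivFin ⟨q, hq⟩, by simp only [V, a, Equiv.symm_apply_apply]; exact hpq⟩
  let f : ∀ i, Γ(L, V i) := fun i => e (t.equivFin.symm i).1
  have hf : ∀ i, IsGen L (V i) (f i) := fun i => he _
  have haU : ∀ i, PrimeSpectrum.basicOpen (a i) ≤ U := fun i => hbU _
  have hrad : maximalIdeal A ≤ (Ideal.span (Set.range a)).radical := by
    rw [Ideal.radical_eq_sInf]
    refine le_sInf fun P ⟨hP, hPp⟩ => ?_
    by_contra hne
    let p : S := (⟨P, hPp⟩ : PrimeSpectrum A)
    have hpU : p ∈ U := fun h => hne (congrArg PrimeSpectrum.asIdeal h).ge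
    obtain ⟨i, hi⟩ := hcov ⟨p, hpU⟩
    simp only [V] at hi
    rw [basicOpen_str] at hi
    exact hi (hP (Ideal.subset_span ⟨i, rfl⟩))
  obtain ⟨p₁, p₂, hp₁, hp₂, hpr⟩ := exists_pair hd
  obtain ⟨hr1, hr2⟩ := regMod_pair hpr
  have mem : ∀ {w : A}, w ∈ maximalIdeal A → ∀ I : Ideal A,
      w ∈ (Ideal.span (Set.range a) ⊔ I).radical := fun hw I => Ideal.radical_mono le_sup_left (hrad hw)
  have hBs : Sep a A ⊥ := sep_of_regMod a (mem hp₁ _) hr1
  have hBg : Glue a A ⊥ := glue_of_regMod a (mem hp₁ _) (mem hp₂ _) hr1 hr2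
  -- the module of sections
  let : Module A Γ(L, ⊤) := Module.compHom _ (str U.ι)
  let : ∀ i, Algebra A Γ((U : Scheme.{u}), V i) := fun i =>
    ((rfHom (le_top : V i ≤ ⊤)).comp (str U.ι)).toAlgebra
  have hloc : ∀ i, IsLocalization.Away (a i) Γ((U : Scheme.{u}), V i) :=
    fun i => isLocalization_chart U (a i) (haU i)
  choose c hc using fun i (m : Γ(L, ⊤)) => GenLocus.exists_coord (hf i) (rs L le_top m)
  have hinj : ∀ i, Function.Injective fun r : Γ((U : Scheme.{u}), V i) => r • f i := fun i => by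
    simpa only [rs_self] using (hf i (V i) le_rfl).1
  let g : ∀ i, Γ(L, ⊤) →ₗ[A] Γ((U : Scheme.{u}), V i) := fun i =>
    { toFun := c i
      map_add' := fun m m' => hinj i (by
        change c i (m + m') • f i = (c i m + c i m') • f i
        rw [add_smul, ← hc, ← hc, ← hc]
        exact map_add (L.presheaf.map (homOfLE (le_top : V i ≤ ⊤)).op).hom m m')
      map_smul' := fun r m => hinj i (by
        simp only [RingHom.id_apply, Algebra.smul_def]
        change c i (str U.ι r • m) • f i = (rf (le_top : V i ≤ ⊤) (str U.ι r) * c i m) • f i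
        rw [mul_smul, ← hc, ← hc, rs_smul]) }
  have : (L : (U : Scheme.{u}).Modules).IsQuasicoherent := QCohInv.isQCoh_of_isInvertible hL
  have hlocg : ∀ i, IsLocalizedModule (Submonoid.powers (a i)) (g i) := fun i => by
    have hL' := QCoh.Localizing.localizes_of_qcqs (M := L) (U := ⊤) isCompact_univ
      isQuasiSeparated_univ (str U.ι (a i))
    refine ⟨?_, ?_, ?_⟩
    · rintro ⟨_, n, rfl⟩
      have hu : IsUnit (algebraMap A Γ((U : Scheme.{u}), V i) (a i ^ n)) := by
        rw [map_pow]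
        exact (IsLocalization.Away.algebraMap_isUnit (a i)).pow n
      rw [Module.End.isUnit_iff]
      refine (Function.Bijective.of_comp_iff _ Function.bijective_id).mp ?_
      convert (IsUnit.smul_bijective hu (β := Γ((U : Scheme.{u}), V i))) using 1
      funext x
      change (a i ^ n) • x = algebraMap A Γ((U : Scheme.{u}), V i) (a i ^ n) • x
      rw [Algebra.smul_def, smul_eq_mul]
    · intro r
      obtain ⟨n, m, hm⟩ := hL'.ext' (r • f i)
      refine ⟨⟨m, ⟨a i ^ n, n, rfl⟩⟩, hinj i ?_⟩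
      change ((a i ^ n) • r) • f i = c i m • f i
      rw [← hc, Algebra.smul_def, mul_smul, map_pow]
      exact hm.symm
    · intro m m' h
      obtain ⟨n, hn⟩ := hL'.sep (m - m') (by
        have h' : rs L (le_top : V i ≤ ⊤) m = rs L (le_top : V i ≤ ⊤) m' := by
          rw [hc, hc, show c i m = c i m' from h]
        rw [map_sub, sub_eq_zero]
        exact h')
      refine ⟨⟨a i ^ n, n, rfl⟩, ?_⟩
      rw [smul_sub, sub_eq_zero] at hn
      change str U.ι (a i ^ n) • m = str U.ι (a i ^ n) • m'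
      rw [map_pow]
      exact hn
  have hs : Sep a Γ(L, ⊤) ⊥ := fun m hm => by
    rw [Submodule.bot_smul, Submodule.mem_bot]
    refine TopCat.Sheaf.eq_of_locally_eq' ⟨L.presheaf, L.isSheaf⟩ V ⊤ (fun i => homOfLE le_top)
      (fun p _ => Opens.mem_iSup.mpr (hcov p)) m 0 fun i => ?_
    obtain ⟨l, hl⟩ := hm i
    rw [Submodule.bot_smul, Submodule.mem_bot] at hl
    have h1 := congrArg (g i) hl
    rw [map_smul, map_zero, Algebra.smul_def, map_pow] at h1
    have h2 : g i m = 0 :=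
      ((IsLocalization.Away.algebraMap_isUnit (a i)).pow l).mul_right_eq_zero.mp h1
    change rs L (le_top : V i ≤ ⊤) m = rs L (le_top : V i ≤ ⊤) 0
    rw [hc, show c i m = g i m from rfl, h2, zero_smul]
    exact (map_zero (L.presheaf.map (homOfLE (le_top : V i ≤ ⊤)).op).hom).symm
  have hunit : ∀ i, IsUnit (rf (le_top : V i ≤ ⊤) (str U.ι (a i))) :=
    fun i => IsLocalization.Away.algebraMap_isUnit (a i)
  have hg : Glue a Γ(L, ⊤) ⊥ := by
    intro k m hm
    choose v hv using fun i => (hunit i).pow k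
    let σ : ∀ i, Γ(L, V i) := fun i => (↑(v i)⁻¹ : Γ((U : Scheme.{u}), V i)) • rs L le_top (m i)
    have hσ : ∀ i, rf (le_top : V i ≤ ⊤) (str U.ι (a i)) ^ k • σ i = rs L le_top (m i) := fun i => by
      simp only [σ]
      rw [← hv i, smul_smul, Units.mul_inv, one_smul]
    have hc' : TopCat.Presheaf.IsCompatible (⟨L.presheaf, L.isSheaf⟩ : TopCat.Sheaf Ab _).1 V σ := by
      intro i j
      change rs L (inf_le_left : V i ⊓ V j ≤ V i) (σ i) = rs L (inf_le_right : V i ⊓ V j ≤ V j) (σ j)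
      have h1 := congrArg (rs L (inf_le_left : V i ⊓ V j ≤ V i)) (hσ i)
      have h2 := congrArg (rs L (inf_le_right : V i ⊓ V j ≤ V j)) (hσ j)
      rw [rs_smul, rs_rs] at h1 h2
      obtain ⟨l, hl⟩ := hm i j
      rw [Submodule.bot_smul, Submodule.mem_bot] at hl
      change str U.ι ((a i * a j) ^ l) • (str U.ι (a j ^ k) • m i - str U.ι (a i ^ k) • m j) = 0 at hl
      rw [smul_sub, smul_smul, smul_smul, sub_eq_zero] at hl
      have h3 := congrArg (rs L (le_top : V i ⊓ V j ≤ ⊤)) hl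
      rw [rs_smul, rs_smul, ← h1, ← h2, smul_smul, smul_smul] at h3
      let ui := (rfHom (le_top : V i ⊓ V j ≤ ⊤)) (str U.ι (a i))
      let uj := (rfHom (le_top : V i ⊓ V j ≤ ⊤)) (str U.ι (a j))
      have eu : IsUnit ui ∧ IsUnit uj := by
        refine ⟨?_, ?_⟩
        · have := (hunit i).map (rfHom (inf_le_left : V i ⊓ V j ≤ V i))
          change IsUnit (rf _ (rf _ _)) at this
          rwa [rf_rf] at this
        · have := (hunit j).map (rfHom (inf_le_right : V i ⊓ V j ≤ V j))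
          change IsUnit (rf _ (rf _ _)) at this
          rwa [rf_rf] at this
      refine (((eu.1.mul eu.2).pow l).mul ((eu.1.pow k).mul (eu.2.pow k))).smul_left_cancel.mp ?_
      convert h3 using 2 <;> simp only [ui, uj, map_mul, map_pow, rfHom, rf_rf] <;>
        (change _ = _; ring)
    obtain ⟨x, hx, -⟩ := TopCat.Sheaf.existsUnique_gluing' ⟨L.presheaf, L.isSheaf⟩ V ⊤
      (fun i => homOfLE le_top) (fun p _ => Opens.mem_iSup.mpr (hcov p)) σ hc'
    refine ⟨x, fun i => ?_⟩
    obtain ⟨⟨_, l, rfl⟩, hl⟩ := IsLocalizedModule.exists_of_eq (S := Submonoid.powers (a i)) (f := g i)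
      (x₁ := a i ^ k • (x : Γ(L, ⊤))) (x₂ := m i) (hinj i (by
        change c i (a i ^ k • (x : Γ(L, ⊤))) • f i = c i (m i) • f i
        rw [← hc, ← hc, ← hσ i]
        change rs L (le_top : V i ≤ ⊤) (str U.ι (a i ^ k) • (x : Γ(L, ⊤))) = _
        rw [rs_smul, map_pow, ← hx i]
        exact congrArg (· • _) (map_pow (rfHom (le_top : V i ≤ ⊤)) _ _)))
    refine ⟨l, ?_⟩
    rw [Submodule.bot_smul, Submodule.mem_bot, smul_sub, sub_eq_zero]
    exact hl
  obtain ⟨D, hD⟩ := exists_lineData hBs hBg hs (fun i => Γ((U : Scheme.{u}), V i)) g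
  have ham : ∀ i, a i ∈ maximalIdeal A := fun i => by
    by_contra h
    rw [mem_maximalIdeal, mem_nonunits_iff, not_not] at h
    exact haU i (show (closedPoint A : PrimeSpectrum A) ∈ PrimeSpectrum.basicOpen (a i) from
      fun hm => hm h) rfl
  obtain ⟨x, hx⟩ := exists_generator_of_idealPara hA hrad ham D hs hg hBs
  obtain ⟨Φ, hΦ⟩ := GenLocus.exists_hom_of_sec (L := L) x
  have hiso : IsIso Φ := H52.PushInv.isIso_of_gens Φ fun p => by
    obtain ⟨i, hi⟩ := hcov p
    refine ⟨V i, one _ (V i), hi, isGen_one _, ?_⟩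
    have h1 : Φ.app (V i) (one (U : Scheme.{u}) (V i)) = rs L le_top x := by
      rw [← rs_app_one Φ (le_top : V i ≤ ⊤)]
      exact congrArg (rs L _) hΦ
    rw [h1, hc i x]
    refine IsGen_smul_isUnit (hf i) ?_
    have h2 := hD i
    obtain ⟨c₁, hc₁⟩ := hx (D.e i)
    rw [hc₁, map_smul, Algebra.smul_def] at h2
    exact (IsUnit.mul_iff.mp h2).2
  exact ⟨(asIso Φ).symm⟩

end Groth.Agent.H80.Divisor
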