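import Groth.Agent.H80.Divisor.Step
import Groth.Agent.H80.Extend.FormalCompl
import Groth.Agent.H22.Completion
import Groth.Agent.Lib.Adic.Complete
import Groth.Agent.Lib.Regular.Completion
import Groth.Agent.Lib.Regular.UFD
import Groth.Agent.Lib.JacCrit.FlatRegular
import Groth.Agent.Lib.Excellent.Transport
import Groth.Agent.H20.CMDim
import Mathlib.RingTheory.KrullDimension.Regular

/-!
# Complete intersections of dimension at least four are parafactorial
-/

set_option autoImplicit false

universe u

open IsLocalRing RingTheory.Sequence TensorProduct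

namespace Groth.Agent.H80.Divisor

open Groth.Agent.Lib.Depth Groth.Agent.H80.Clopen

variable {S : Type u} [CommRing S] [IsRegularLocalRing S]

theorem isCohenMacaulay_ci (rs : List S) (hmem : ∀ r ∈ rs, r ∈ maximalIdeal S)
    (hreg : IsWeaklyRegular S rs) [IsLocalRing (S ⧸ Ideal.ofList rs)] :
    LocCoh.IsCohenMacaulayLocalRing (S ⧸ Ideal.ofList rs) := by
  have := Lib.JacCrit.FlatRegular.isCohenMacaulayLocalRing S
  rw [CM.isCohenMacaulayLocalRing_quotient_iff_module]
  exact (CM.isCohenMacaulayModule_congr (Submodule.quotEquivOfEq _ (Ideal.ofList rs) (Ideal.mul_top _))).mp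
    (H20.CMDim.isCohenMacaulayModule_quotient_ofList CM.isCohenMacaulayModule_self rs hmem hreg)

theorem isLocalRing_ci (rs : List S) (hmem : ∀ r ∈ rs, r ∈ maximalIdeal S) :
    IsLocalRing (S ⧸ Ideal.ofList rs) := by
  have : Nontrivial (S ⧸ Ideal.ofList rs) := Ideal.Quotient.nontrivial_iff.mpr
    (ne_top_of_le_ne_top (Ideal.IsMaximal.ne_top inferInstance) (Ideal.span_le.mpr hmem))
  exact IsLocalRing.of_surjective' _ Ideal.Quotient.mk_surjective

theorem dim_ci (rs : List S) (hmem : ∀ r ∈ rs, r ∈ maximalIdeal S)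
    (hreg : IsWeaklyRegular S rs) :
    ringKrullDim (S ⧸ Ideal.ofList rs) + rs.length = ringKrullDim S :=
  ringKrullDim_add_length_eq_ringKrullDim_of_isRegular rs
    ((IsLocalRing.isRegular_iff_isWeaklyRegular_of_subset_maximalIdeal hmem).mpr hreg)

theorem depth_ci (rs : List S) (hmem : ∀ r ∈ rs, r ∈ maximalIdeal S) (hreg : IsWeaklyRegular S rs)
    [IsLocalRing (S ⧸ Ideal.ofList rs)] (k : ℕ) (hdim : (k : WithBot ℕ∞) ≤ ringKrullDim (S ⧸ Ideal.ofList rs)) :
    (k : ℕ∞) ≤ LocCoh.depth (S ⧸ Ideal.ofList rs) (S ⧸ Ideal.ofList rs) := by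
  have := isCohenMacaulay_ci rs hmem hreg
  rw [CM.ringKrullDim_eq_depth] at hdim
  exact WithBot.coe_le_coe.mp hdim

theorem ringKrullDim_quotient_le_one {A : Type u} [CommRing A] [IsLocalRing A] (q : Ideal A) [q.IsPrime]
    (h : ∀ p : Ideal A, p.IsPrime → q < p → p = maximalIdeal A) : Ring.KrullDimLE 1 (A ⧸ q) := by
  refine Ring.krullDimLE_one_iff.mpr fun P hP => ?_
  have := hP.comap (Ideal.Quotient.mk q)
  have hle : q ≤ P.comap (Ideal.Quotient.mk q) := fun x hx => by
    rw [Ideal.mem_comap, Ideal.Quotient.eq_zero_iff_mem.mpr hx]; exact zero_mem _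
  have hP' := Ideal.map_comap_of_surjective (Ideal.Quotient.mk q) Ideal.Quotient.mk_surjective P
  rcases hle.eq_or_lt with h1 | h1
  · left
    rw [← hP', ← h1, Ideal.map_quotient_self, IsDomain.minimalPrimes_eq_singleton_bot]
    rfl
  · right
    rw [← hP', h _ inferInstance h1]
    refine (Ideal.map_eq_top_or_isMaximal_of_surjective _ Ideal.Quotient.mk_surjective inferInstance).resolve_left ?_
    rw [← h _ inferInstance h1, hP']
    exact hP.ne_top

theorem ringKrullDim_localization_ci (rs : List S) (hmem : ∀ r ∈ rs, r ∈ maximalIdeal S)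
    (hreg : IsWeaklyRegular S rs) [IsLocalRing (S ⧸ Ideal.ofList rs)]
    (q : Ideal (S ⧸ Ideal.ofList rs)) [q.IsPrime]
    (h : ∀ p : Ideal (S ⧸ Ideal.ofList rs), p.IsPrime → q < p → p = maximalIdeal _) (k : ℕ)
    (hdim : ((k + 1 : ℕ) : WithBot ℕ∞) ≤ ringKrullDim (S ⧸ Ideal.ofList rs)) :
    (k : WithBot ℕ∞) ≤ ringKrullDim (Localization.AtPrime q) := by
  have := isCohenMacaulay_ci rs hmem hreg
  have hsupp : Module.support (S ⧸ Ideal.ofList rs) (S ⧸ Ideal.ofList rs) = Set.univ := by
    simp [Module.support_eq_zeroLocus, Module.annihilator_eq_bot.mpr]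
  have e := H20.CMDim.ringKrullDim_quotient_add_height (CM.isCohenMacaulayModule_self) hsupp q
  have := ringKrullDim_quotient_le_one q h
  have h1 : ringKrullDim ((S ⧸ Ideal.ofList rs) ⧸ q) ≤ 1 := Order.krullDimLE_iff _ _ |>.mp this
  rw [IsLocalization.AtPrime.ringKrullDim_eq_height q (Localization.AtPrime q)]
  rw [← e] at hdim
  have h2 := hdim.trans (add_le_add h1 le_rfl)
  rw [Nat.cast_add, Nat.cast_one, add_comm (1 : WithBot ℕ∞)] at h2
  exact (ENat.WithBot.add_le_add_one_right_iff).mp h2

set_option maxHeartbeats 1000000 in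
/-- Complete intersections of dimension at least four are parafactorial. -/
theorem idealPara_ci : ∀ (n : ℕ) (S : Type u) [CommRing S] [IsRegularLocalRing S] (rs : List S),
    rs.length = n → (∀ r ∈ rs, r ∈ maximalIdeal S) → IsWeaklyRegular S rs →
    ∀ [IsLocalRing (S ⧸ Ideal.ofList rs)],
    (4 : WithBot ℕ∞) ≤ ringKrullDim (S ⧸ Ideal.ofList rs) → IdealPara (S ⧸ Ideal.ofList rs) := by
  intro n
  induction n with
  | zero =>
    intro S _ _ rs hn _ _ _ _
    obtain rfl := List.eq_nil_of_length_eq_zero hn
    have := Lib.Regular.Quotient.isDomain S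
    have := Lib.Regular.UFD.uniqueFactorizationMonoid S
    exact IdealPara.of_ringEquiv ((RingEquiv.quotientBot S).symm.trans
      (Ideal.quotEquivOfEq Ideal.ofList_nil.symm)) idealPara_of_ufd
  | succ n ih =>
    intro S _ _ rs hn hmem hreg _ hdim
    obtain rfl | ⟨rs', x, rfl⟩ := List.eq_nil_or_concat' rs
    · simp at hn
    let m := maximalIdeal S
    let S' := AdicCompletion m S
    have hm : m ≠ ⊤ := Ideal.IsMaximal.ne_top inferInstance
    have := Lib.Regular.Completion.isLocalRing m hm
    have := Lib.Excellent.CompletionNoetherian.isNoetherianRing_adicCompletion m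
    have : IsRegularLocalRing S' := (Lib.Regular.Completion.isRegularLocalRing_iff m hm).mp ‹_›
    have := Extend.faithfullyFlat_completion S
    have hmap := Lib.Regular.Completion.map_maximalIdeal m hm
    have : IsAdicComplete (maximalIdeal S') S' := by
      rw [← hmap]
      exact AdicCompletion.isAdicComplete_self m m.fg_of_isNoetherianRing
    let φ := algebraMap S S'
    -- the completed sequence
    let ts := rs'.map φ
    let y := φ x
    have hmem' : ∀ r ∈ ts ++ [y], r ∈ maximalIdeal S' := fun r hr => by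
      have : r ∈ (rs' ++ [x]).map φ := by simpa [ts, y] using hr
      obtain ⟨r₀, hr₀, rfl⟩ := List.mem_map.mp this
      rw [← hmap]
      exact Ideal.mem_map_of_mem _ (hmem r₀ hr₀)
    have hreg' : IsWeaklyRegular S' (ts ++ [y]) := by
      have := hreg.of_flat (S := S')
      simpa [ts, y, φ] using this
    have hregts : IsWeaklyRegular S' ts := ((isWeaklyRegular_append_iff _ _ _).mp hreg').1
    have hmts : ∀ r ∈ ts, r ∈ maximalIdeal S' := fun r hr => hmem' r (List.mem_append_left _ hr)
    have hlen : ts.length = n := by simpa [ts] using hn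
    have := isLocalRing_ci (ts ++ [y]) hmem'
    have := isLocalRing_ci ts hmts
    let J := Ideal.ofList (rs' ++ [x])
    let A := S' ⧸ Ideal.ofList ts
    let f : A := Ideal.Quotient.mk _ y
    have hJ : J.map φ = Ideal.ofList (ts ++ [y]) := by
      simp only [J, ts, y, φ, Ideal.map_ofList, List.map_append, List.map_cons, List.map_nil]
    have e : S' ⧸ J.map φ ≃+* A ⧸ Ideal.span {f} :=
      ((Ideal.quotEquivOfEq (by rw [hJ, Ideal.ofList_append, Ideal.ofList_singleton])).trans
        (DoubleQuot.quotQuotEquivQuotSup (Ideal.ofList ts) (Ideal.span {y})).symm).trans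
        (Ideal.quotEquivOfEq (by rw [Ideal.map_span, Set.image_singleton]))
    -- dimensions
    have hd0 := dim_ci _ hmem hreg
    have hd1 := dim_ci _ hmem' hreg'
    have hd2 := dim_ci _ hmts hregts
    have hdS : ringKrullDim S' = ringKrullDim S := Lib.Regular.Completion.ringKrullDim_eq m hm
    have hB : ringKrullDim (S' ⧸ Ideal.ofList (ts ++ [y])) = ringKrullDim (S ⧸ J) := by
      rw [hdS, ← hd0] at hd1
      simp only [List.length_append, ts, List.length_map, List.length_singleton] at hd1
      exact ENat.WithBot.add_natCast_cancel.mp hd1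
    have hA5 : ((4 + 1 : ℕ) : WithBot ℕ∞) ≤ ringKrullDim A := by
      rw [← hd1, hB, List.length_append, List.length_singleton, Nat.cast_add, Nat.cast_one,
        add_comm (ts.length : WithBot ℕ∞), ← add_assoc] at hd2
      rw [ENat.WithBot.add_natCast_cancel.mp hd2, Nat.cast_add, Nat.cast_one]
      exact add_le_add (by exact_mod_cast hdim) le_rfl
    have hfm : f ∈ maximalIdeal A := by
      rw [mem_maximalIdeal, mem_nonunits_iff]
      have := IsLocalHom.of_surjective (Ideal.Quotient.mk (Ideal.ofList ts)) Ideal.Quotient.mk_surjective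
      exact fun hu => hmem' y (by simp) (isUnit_of_map_unit (Ideal.Quotient.mk (Ideal.ofList ts)) y hu)
    have hfreg : IsSMulRegular A f := by
      have h := ((isWeaklyRegular_append_iff _ _ _).mp hreg').2
      rw [isWeaklyRegular_singleton_iff] at h
      have h' := regMod_of_isSMulRegular h
      rw [isSMulRegular_iff_right_eq_zero_of_smul]
      intro a ha
      obtain ⟨a, rfl⟩ := Ideal.Quotient.mk_surjective a
      exact Ideal.Quotient.eq_zero_iff_mem.mpr (h' a (Ideal.Quotient.eq_zero_iff_mem.mp
        (by rw [map_mul]; exact ha)))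
    have : IsAdicComplete (maximalIdeal A) A := by
      have := Lib.Adic.Complete.isAdicComplete_quotient (I := maximalIdeal S') (Ideal.ofList ts)
      rwa [IsLocalRing.map_maximalIdeal_of_surjective _ Ideal.Quotient.mk_surjective] at this
    have : IsAdicComplete (Ideal.span {f}) A :=
      H22.Completion.isAdicComplete_of_le_of_fg (Ideal.span {f}) (J := maximalIdeal A)
        ((Ideal.span_singleton_le_iff_mem _).mpr hfm) (Submodule.fg_span_singleton f)
    have : IsLocalRing (A ⧸ Ideal.span {f}) := by
      have : IsLocalRing (S' ⧸ J.map φ) := hJ ▸ ‹IsLocalRing (S' ⧸ Ideal.ofList (ts ++ [y]))›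
      exact e.isLocalRing
    have hdepth : (4 : ℕ∞) ≤ LocCoh.depth (A ⧸ Ideal.span {f}) (A ⧸ Ideal.span {f}) := by
      have hcm := isCohenMacaulay_ci _ hmem' hreg'
      have e' : (S' ⧸ Ideal.ofList (ts ++ [y])) ≃+* A ⧸ Ideal.span {f} :=
        (Ideal.quotEquivOfEq hJ.symm).trans e
      have := Lib.Excellent.Transport.isCohenMacaulayLocalRing_of_ringEquiv e'
      have h := CM.ringKrullDim_eq_depth (R := A ⧸ Ideal.span {f})
      rw [← ringKrullDim_eq_of_ringEquiv e', hB] at h
      exact WithBot.coe_le_coe.mp (h ▸ hdim)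
    have hparaA : IdealPara A :=
      ih S' ts hlen hmts hregts ((Nat.cast_le.mpr (Nat.le_succ 4)).trans hA5)
    have hstep : IdealPara (A ⧸ Ideal.span {f}) := by
      refine idealPara_quotient f hfm hfreg hdepth ?_ hparaA
      intro q _ _ _ hq
      let Q := q.comap (Ideal.Quotient.mk (Ideal.ofList ts))
      have hle : Ideal.ofList ts ≤ Q := fun r hr => by
        rw [Ideal.mem_comap, Ideal.Quotient.eq_zero_iff_mem.mpr hr]; exact zero_mem _
      let R := Localization.AtPrime Q
      have : IsRegularLocalRing R := Lib.Regular.Serre.isRegularLocalRing_localization Q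
      let us := ts.map (algebraMap S' R)
      have hmu : ∀ r ∈ us, r ∈ maximalIdeal R := fun r hr => by
        obtain ⟨r₀, hr₀, rfl⟩ := List.mem_map.mp hr
        exact (IsLocalization.AtPrime.to_map_mem_maximal_iff R Q r₀).mpr (hle (Ideal.subset_span hr₀))
      have hru : IsWeaklyRegular R us := hregts.of_isLocalization R Q.primeCompl
      let R' := R ⧸ (Ideal.ofList ts).map (algebraMap S' R)
      have hsub : Algebra.algebraMapSubmonoid A Q.primeCompl = q.primeCompl := by
        ext z
        obtain ⟨z, rfl⟩ := Ideal.Quotient.mk_surjective z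
        refine ⟨?_, fun hz => ⟨z, hz, rfl⟩⟩
        rintro ⟨w, hw, hwz⟩ hz
        exact hw (show algebraMap S' A w ∈ q from hwz ▸ hz)
      have : IsLocalization.AtPrime R' q := by
        have h : IsLocalization (Algebra.algebraMapSubmonoid A Q.primeCompl) R' := inferInstance
        rwa [hsub] at h
      have eq' : (R ⧸ Ideal.ofList us) ≃+* Localization.AtPrime q :=
        (Ideal.quotEquivOfEq (Ideal.map_ofList _ _).symm).trans
          (IsLocalization.algEquiv q.primeCompl R' (Localization.AtPrime q)).toRingEquiv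
      have := isLocalRing_ci us hmu
      refine IdealPara.of_ringEquiv eq' (ih R us (by simpa [us] using hlen) hmu hru ?_)
      rw [ringKrullDim_eq_of_ringEquiv eq']
      exact ringKrullDim_localization_ci ts hmts hregts q hq 4 hA5
    -- descend
    have : IsLocalRing (S' ⧸ J.map φ) := hJ ▸ ‹IsLocalRing (S' ⧸ Ideal.ofList (ts ++ [y]))›
    have hpara' : IdealPara (S' ⧸ J.map φ) := IdealPara.of_ringEquiv e.symm hstep
    let eA : (S' ⧸ J.map φ) ≃ₗ[S] (S ⧸ J) ⊗[S] S' :=
      ((Algebra.TensorProduct.quotIdealMapEquivTensorQuot S' J).toLinearEquiv.restrictScalars S).trans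
        (TensorProduct.comm S S' (S ⧸ J))
    have : Module.FaithfullyFlat (S ⧸ J) (S' ⧸ J.map φ) :=
      Module.FaithfullyFlat.of_linearEquiv (S ⧸ J) ((S ⧸ J) ⊗[S] S')
        (LinearEquiv.extendScalarsOfSurjective Ideal.Quotient.mk_surjective eA)
    refine IdealPara.of_flat (A' := S' ⧸ J.map φ) ?_ hpara'
    rw [← IsLocalRing.map_maximalIdeal_of_surjective (Ideal.Quotient.mk J) Ideal.Quotient.mk_surjective,
      Ideal.map_map, ← IsLocalRing.map_maximalIdeal_of_surjective (Ideal.Quotient.mk (J.map φ))
        Ideal.Quotient.mk_surjective, ← hmap, Ideal.map_map]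
    rfl

end Groth.Agent.H80.Divisor
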