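import Groth.Agent.H80.Clopen.Principal

/-!
# Vanishing of ordered Čech cohomology in degrees one and two in depth four
-/

set_option autoImplicit false

universe u

open IsLocalRing RingTheory.Sequence

namespace Groth.Agent.H80.Divisor

open Groth.Agent.H80.Clopen

section

variable {A : Type*} [CommRing A] {ι : Type*} [Finite ι] (a : ι → A)

/-- Ordered one-cocycles modulo `I` are coboundaries. -/
def H1Ord (I : Ideal A) : Prop :=
  ∀ (S : ℕ) (u : ι → ι → A),
    (∀ i j l, a i ^ S * u j l - a j ^ S * u i l + a l ^ S * u i j ∈ I) →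
    ∃ (p : ℕ) (w : ι → A), ∀ i j,
      (a i * a j) ^ p * u i j - (a i ^ (S + p) * w j - a j ^ (S + p) * w i) ∈ I

/-- Ordered two-cocycles modulo `I` are coboundaries. -/
def H2Ord (I : Ideal A) : Prop :=
  ∀ (S : ℕ) (u : ι → ι → ι → A),
    (∀ i j l m, a i ^ S * u j l m - a j ^ S * u i l m + a l ^ S * u i j m - a m ^ S * u i j l ∈ I) →
    ∃ (p : ℕ) (h : ι → ι → A), ∀ i j l,
      (a i * a j * a l) ^ p * u i j l -
        (a i ^ (S + p) * h j l - a j ^ (S + p) * h i l + a l ^ (S + p) * h i j) ∈ I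

variable {a} {I : Ideal A} {x : A}

theorem h1Ord_of_glue (hx : x ∈ (Ideal.span (Set.range a) ⊔ I).radical) (hreg : RegMod I x)
    (hg : ∀ N, Glue a A (I ⊔ Ideal.span {x ^ N})) : H1Ord a I := by
  have := Fintype.ofFinite ι
  intro S u hu
  obtain ⟨N, c, hc⟩ := exists_coeff a hx S
  let W : ι → A := fun i => ∑ m, c m * u m i
  have hW : ∀ i j, x ^ N * u i j - (a i ^ S * W j - a j ^ S * W i) ∈ I := fun i j => by
    have h1 : (∑ m, c m * a m ^ S) * u i j - (a i ^ S * W j - a j ^ S * W i) ∈ I := by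
      simp only [W]
      rw [Finset.sum_mul, Finset.mul_sum, Finset.mul_sum, ← Finset.sum_sub_distrib,
        ← Finset.sum_sub_distrib]
      refine sum_mem fun m _ => ?_
      convert Ideal.mul_mem_left I (c m) (hu m i j) using 1
      ring
    convert add_mem (Ideal.mul_mem_right (u i j) _ hc) h1 using 1
    ring
  obtain ⟨X, hX⟩ := hg N S W fun i j => ⟨0, by
    rw [pow_zero, one_smul, mem_smul_top_self, smul_eq_mul, smul_eq_mul]
    have h1 : x ^ N * u i j ∈ I ⊔ Ideal.span {x ^ N} :=
      Submodule.mem_sup_right (Ideal.mul_mem_right _ _ (Ideal.mem_span_singleton_self _))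
    convert sub_mem (Submodule.mem_sup_left (hW i j) : _ ∈ I ⊔ Ideal.span {x ^ N}) h1 using 1
    ring⟩
  obtain ⟨p, hp⟩ := exists_common ((I ⊔ Ideal.span {x ^ N}) • (⊤ : Submodule A A)) a
    (fun i => a i ^ S • X - W i) hX
  choose e he z hz hez using fun i => Submodule.mem_sup.mp (mem_smul_top_self.mp (hp i))
  choose w hw using fun i => Ideal.mem_span_singleton'.mp (hz i)
  refine ⟨p, fun i => -w i, fun i j => (hreg.pow N) _ ?_⟩
  have hi := hez i
  have hj := hez j
  simp only [smul_eq_mul] at hi hj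
  rw [← hw i] at hi
  rw [← hw j] at hj
  convert add_mem (Ideal.mul_mem_left I ((a i * a j) ^ p) (hW i j))
    (sub_mem (Ideal.mul_mem_left I (a j ^ (S + p)) (he i))
      (Ideal.mul_mem_left I (a i ^ (S + p)) (he j))) using 1
  linear_combination a i ^ (S + p) * hj - a j ^ (S + p) * hi

theorem h2Ord_of_h1Ord (hx : x ∈ (Ideal.span (Set.range a) ⊔ I).radical) (hreg : RegMod I x)
    (h1 : ∀ N, H1Ord a (I ⊔ Ideal.span {x ^ N})) : H2Ord a I := by
  have := Fintype.ofFinite ι
  intro S u hu
  obtain ⟨N, c, hc⟩ := exists_coeff a hx S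
  let W : ι → ι → A := fun i j => ∑ m, c m * u m i j
  have hW : ∀ i j l, x ^ N * u i j l - (a i ^ S * W j l - a j ^ S * W i l + a l ^ S * W i j) ∈ I :=
    fun i j l => by
    have h2 : (∑ m, c m * a m ^ S) * u i j l -
        (a i ^ S * W j l - a j ^ S * W i l + a l ^ S * W i j) ∈ I := by
      simp only [W]
      rw [Finset.sum_mul, Finset.mul_sum, Finset.mul_sum, Finset.mul_sum, ← Finset.sum_sub_distrib,
        ← Finset.sum_add_distrib, ← Finset.sum_sub_distrib]
      refine sum_mem fun m _ => ?_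
      convert Ideal.mul_mem_left I (c m) (hu m i j l) using 1
      ring
    convert add_mem (Ideal.mul_mem_right (u i j l) _ hc) h2 using 1
    ring
  obtain ⟨p, w, hw⟩ := h1 N S W fun i j l => by
    have h2 : x ^ N * u i j l ∈ I ⊔ Ideal.span {x ^ N} :=
      Submodule.mem_sup_right (Ideal.mul_mem_right _ _ (Ideal.mem_span_singleton_self _))
    convert sub_mem h2 (Submodule.mem_sup_left (hW i j l) : _ ∈ I ⊔ Ideal.span {x ^ N}) using 1
    ring
  choose e he z hz hez using fun i j => Submodule.mem_sup.mp (hw i j)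
  choose h hh using fun i j => Ideal.mem_span_singleton'.mp (hz i j)
  refine ⟨p, h, fun i j l => (hreg.pow N) _ ?_⟩
  have e1 := hez j l
  have e2 := hez i l
  have e3 := hez i j
  rw [← hh j l] at e1
  rw [← hh i l] at e2
  rw [← hh i j] at e3
  convert add_mem (Ideal.mul_mem_left I ((a i * a j * a l) ^ p) (hW i j l))
    (add_mem (sub_mem (Ideal.mul_mem_left I (a i ^ (S + p)) (he j l))
      (Ideal.mul_mem_left I (a j ^ (S + p)) (he i l)))
      (Ideal.mul_mem_left I (a l ^ (S + p)) (he i j))) using 1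
  linear_combination -(a i ^ (S + p)) * e1 + a j ^ (S + p) * e2 - a l ^ (S + p) * e3

end

variable {A : Type u} [CommRing A] [IsNoetherianRing A] [IsLocalRing A]

/-- The last element of a weakly regular sequence may be raised to a power. -/
theorem isWeaklyRegular_pow_last {rs : List A} {x : A} (h : IsWeaklyRegular A (rs ++ [x])) (n : ℕ) :
    IsWeaklyRegular A (rs ++ [x ^ n]) := by
  rw [isWeaklyRegular_append_iff] at h ⊢
  refine ⟨h.1, ?_⟩
  rw [isWeaklyRegular_singleton_iff] at h ⊢
  exact h.2.pow n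

set_option maxHeartbeats 1000000 in
/-- The cohomological consequences of depth four of `A ⧸ J`. -/
theorem setup_of_depth_four {ι : Type*} [Finite ι] (J : Ideal A) [IsLocalRing (A ⧸ J)]
    (hd : (4 : ℕ∞) ≤ LocCoh.depth (A ⧸ J) (A ⧸ J)) (a : ι → A)
    (ha : maximalIdeal A ≤ (Ideal.span (Set.range a) ⊔ J).radical) :
    Sep a A J ∧ Glue a A J ∧ H1Ord a J ∧ H2Ord a J := by
  obtain ⟨rs, hlen, hmem, hreg⟩ := (Lib.Depth.Basic.le_depth_iff 4).mp hd
  match rs, hlen with
  | [x', y', z', w'], _ =>
    obtain ⟨x, rfl⟩ := Ideal.Quotient.mk_surjective x'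
    obtain ⟨y, rfl⟩ := Ideal.Quotient.mk_surjective y'
    obtain ⟨z, rfl⟩ := Ideal.Quotient.mk_surjective z'
    obtain ⟨w, rfl⟩ := Ideal.Quotient.mk_surjective w'
    let π := Ideal.Quotient.mk J
    have hm : ∀ r ∈ [π x, π y, π z, π w], r ∈ maximalIdeal (A ⧸ J) := hmem
    have memA : ∀ {v : A}, π v ∈ [π x, π y, π z, π w] → ∀ I : Ideal A,
        v ∈ (Ideal.span (Set.range a) ⊔ (J ⊔ I)).radical := fun {v} hv I =>
      Ideal.radical_mono (sup_le le_sup_left (le_sup_left.trans le_sup_right))
        (ha fun hu => hm _ hv (hu.map π))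
    have key : ∀ N M : ℕ, 0 < N → 0 < M →
        IsWeaklyRegular (A ⧸ J) [π x ^ N, π y ^ M, π z, π w] := by
      intro N M hN hM
      have h0 : IsWeaklyRegular (A ⧸ J) [π x, π y, π z, π w] := hreg.toIsWeaklyRegular
      have h1 : IsWeaklyRegular (A ⧸ J) ([π y, π z, π w] ++ [π x]) := by
        refine IsLocalRing.isWeaklyRegular_of_perm_of_subset_maximalIdeal h0 ?_ hm
        exact (List.perm_append_singleton (π x) [π y, π z, π w]).symm
      have hm' : ∀ r : A ⧸ J, r = π x ^ N ∨ r = π y ^ M ∨ r = π y ∨ r = π z ∨ r = π w →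
          r ∈ maximalIdeal (A ⧸ J) := by
        rintro r (rfl | rfl | rfl | rfl | rfl)
        · exact Ideal.pow_mem_of_mem _ (hm _ (by simp)) _ hN
        · exact Ideal.pow_mem_of_mem _ (hm _ (by simp)) _ hM
        all_goals exact hm _ (by simp)
      have h2 := isWeaklyRegular_pow_last h1 N
      have h3 : IsWeaklyRegular (A ⧸ J) ([π x ^ N, π z, π w] ++ [π y]) := by
        refine IsLocalRing.isWeaklyRegular_of_perm_of_subset_maximalIdeal h2 ?_
          fun r hr => hm' r (by simp at hr; tauto)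
        exact (List.perm_append_singleton (π x ^ N) [π y, π z, π w]).trans
          ((List.perm_append_singleton (π y) [π z, π w]).symm.cons _)
      refine IsLocalRing.isWeaklyRegular_of_perm_of_subset_maximalIdeal (isWeaklyRegular_pow_last h3 M)
        ?_ fun r hr => hm' r (by simp at hr; tauto)
      exact (List.perm_append_singleton (π y ^ M) [π z, π w]).cons _
    have pull : ∀ (L : List A) (v : A) (L' : List (A ⧸ J)), L' = L.map π →
        IsSMulRegular ((A ⧸ J) ⧸ (Ideal.ofList L' • ⊤ : Submodule (A ⧸ J) (A ⧸ J))) (π v) →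
          RegMod (J ⊔ Ideal.ofList L) v := fun L v L' hL' h b hb => by
      subst hL'
      have h' := regMod_of_isSMulRegular h
      rw [← Ideal.map_ofList] at h'
      rw [sup_comm, ← Ideal.mem_quotient_iff_mem_sup] at hb ⊢
      exact h' _ (by rwa [← map_mul])
    have triv : ∀ (I : Ideal A) (v : A), (1 : A) ∈ I → RegMod I v := fun I v h b _ => by
      simpa using I.mul_mem_left b h
    have r0 : RegMod J x := by
      have hk := key 1 1 one_pos one_pos
      rw [pow_one, pow_one] at hk
      simpa using pull [] x [] (by simp) (hk.regular_mod_prev 0 (by simp))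
    have r1 : ∀ N, RegMod (J ⊔ Ideal.span {x ^ N}) y := fun N => by
      rcases Nat.eq_zero_or_pos N with rfl | hN
      · exact triv _ _ (Submodule.mem_sup_right (by simp))
      have hk := key N 1 hN one_pos
      rw [pow_one] at hk
      simpa using pull [x ^ N] y [π x ^ N] (by simp) (hk.regular_mod_prev 1 (by simp))
    have r2 : ∀ N M, RegMod ((J ⊔ Ideal.span {x ^ N}) ⊔ Ideal.span {y ^ M}) z := fun N M => by
      rcases Nat.eq_zero_or_pos N with rfl | hN
      · exact triv _ _ (Submodule.mem_sup_left (Submodule.mem_sup_right (by simp)))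
      rcases Nat.eq_zero_or_pos M with rfl | hM
      · exact triv _ _ (Submodule.mem_sup_right (by simp))
      simpa [Ideal.ofList_cons, sup_assoc] using pull [x ^ N, y ^ M] z [π x ^ N, π y ^ M] (by simp)
        ((key N M hN hM).regular_mod_prev 2 (by simp))
    have r3 : ∀ N M, RegMod ((J ⊔ Ideal.span {x ^ N}) ⊔ Ideal.span {y ^ M} ⊔ Ideal.span {z}) w :=
      fun N M => by
      rcases Nat.eq_zero_or_pos N with rfl | hN
      · exact triv _ _ (Submodule.mem_sup_left (Submodule.mem_sup_left
          (Submodule.mem_sup_right (by simp))))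
      rcases Nat.eq_zero_or_pos M with rfl | hM
      · exact triv _ _ (Submodule.mem_sup_left (Submodule.mem_sup_right (by simp)))
      simpa [Ideal.ofList_cons, sup_assoc] using pull [x ^ N, y ^ M, z] w [π x ^ N, π y ^ M, π z]
        (by simp) ((key N M hN hM).regular_mod_prev 3 (by simp))
    have hge : ∀ {I : Ideal A}, J ≤ I → J ⊔ I = I := fun h => sup_eq_right.mpr h
    have mx := fun (I : Ideal A) (h : J ≤ I) => hge h ▸ memA (v := x) (by simp) I
    have my := fun (I : Ideal A) (h : J ≤ I) => hge h ▸ memA (v := y) (by simp) I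
    have mz := fun (I : Ideal A) (h : J ≤ I) => hge h ▸ memA (v := z) (by simp) I
    have mw := fun (I : Ideal A) (h : J ≤ I) => hge h ▸ memA (v := w) (by simp) I
    refine ⟨sep_of_regMod a (mx J le_rfl) r0,
      glue_of_regMod a (mx J le_rfl) (my J le_rfl) r0 (by simpa using r1 1), ?_, ?_⟩
    · exact h1Ord_of_glue (mx J le_rfl) r0 fun N =>
        glue_of_regMod a (my _ le_sup_left) (mz _ le_sup_left) (r1 N) (by simpa using r2 N 1)
    · exact h2Ord_of_h1Ord (mx J le_rfl) r0 fun N => h1Ord_of_glue (my _ le_sup_left) (r1 N) fun M =>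
        glue_of_regMod a (mz _ (le_sup_left.trans le_sup_left)) (mw _ (le_sup_left.trans le_sup_left))
          (r2 N M) (r3 N M)

end Groth.Agent.H80.Divisor
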