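import Groth.Agent.H80.Divisor.Frac

/-!
# Čech cohomology in one localisation
-/

set_option autoImplicit false

universe u

namespace Groth.Agent.H80.Divisor

open Groth.Agent.H80.Clopen

variable {A : Type u} [CommRing A] (f : A) {ι : Type} (a : ι → A) (K : Type u) [CommRing K]
  [Algebra A K]

/-- Functions on the punctured spectrum modulo `f` come from `A`. -/
def GlobalK : Prop :=
  ∀ z : K, (∀ i, OnM f 1 (a i) z) → ∃ (x : A) (r : K), z = algebraMap A K x + algebraMap A K f * r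

/-- One-cocycles of functions are coboundaries modulo `f`. -/
def H1K : Prop :=
  ∀ c : ι → ι → K, (∀ i j, c i j ∈ Loc K (a i * a j)) →
    (∀ i j l, ∃ r, c j l - c i l + c i j = algebraMap A K f * r) →
    ∃ w : ι → K, (∀ i, w i ∈ Loc K (a i)) ∧
      ∀ i j, ∃ r, c i j - (w j - w i) = algebraMap A K f * r

/-- Two-cocycles of functions are coboundaries modulo `f`. -/
def H2K : Prop :=
  ∀ c : ι → ι → ι → K, (∀ i j l, c i j l ∈ Loc K (a i * a j * a l)) →
    (∀ i j l m, ∃ r, c j l m - c i l m + c i j m - c i j l = algebraMap A K f * r) →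
    ∃ h : ι → ι → K, (∀ i j, h i j ∈ Loc K (a i * a j)) ∧
      ∀ i j l, ∃ r, c i j l - (h j l - h i l + h i j) = algebraMap A K f * r

variable {f a K}

theorem exists_uniform {β : Type} [Finite β] (b : β → A) (x : β → K) (hx : ∀ k, x k ∈ Loc K (b k)) :
    ∃ (L : ℕ) (z : β → A), ∀ k, algebraMap A K (b k) ^ L * x k = algebraMap A K (z k) := by
  have := Fintype.ofFinite β
  choose l z hz using hx
  refine ⟨Finset.univ.sup l, fun k => b k ^ (Finset.univ.sup l - l k) * z k, fun k => ?_⟩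
  rw [map_mul, map_pow, ← hz k, ← mul_assoc, ← pow_add,
    Nat.sub_add_cancel (Finset.le_sup (Finset.mem_univ k))]

variable {T : Submonoid A} [IsLocalization T K] [Finite ι] (S : Setup f a T)

include S

theorem globalK_of_glue [Nonempty ι] (hg : Glue a A (Ideal.span {f})) : GlobalK f a K := by
  intro z hz
  choose y hy r hr using hz
  obtain ⟨L, m, hm⟩ := exists_uniform a y hy
  obtain ⟨x, hx⟩ := hg L m fun i j => by
    obtain ⟨l, hl⟩ := S.exists_pow_dvd (n := 1) (K := K) (z := a j ^ L * m i - a i ^ L * m j)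
      (r := algebraMap A K (a i) ^ L * algebraMap A K (a j) ^ L * (r j - r i)) (by
        simp only [map_sub, map_mul, map_pow, ← hm]
        linear_combination (algebraMap A K (a i) ^ L * algebraMap A K (a j) ^ L) * (hr j - hr i)) i
    refine ⟨l, mem_smul_top_self.mpr (Ideal.mem_span_singleton.mpr ?_)⟩
    rw [pow_one] at hl
    rw [smul_eq_mul, smul_eq_mul, smul_eq_mul, mul_pow, mul_right_comm]
    exact hl.mul_right _
  obtain ⟨i⟩ := ‹Nonempty ι›
  obtain ⟨l, hl⟩ := hx i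
  rw [mem_smul_top_self, Ideal.mem_span_singleton] at hl
  obtain ⟨w, hw⟩ := hl
  have h2 := congrArg (algebraMap A K) hw
  simp only [smul_eq_mul, map_mul, map_sub, map_pow] at h2
  rw [← hm] at h2
  obtain ⟨u, hu⟩ := ((S.isUnit_a (K := K) i).pow (l + L))
  refine ⟨x, r i - ↑u⁻¹ * algebraMap A K w, ?_⟩
  have h3 : (↑u⁻¹ : K) * algebraMap A K (a i) ^ (l + L) = 1 := by rw [← hu, Units.inv_mul]
  linear_combination hr i - (↑u⁻¹ : K) * h2 + (algebraMap A K x - y i) * h3

theorem h1K_of_h1Ord (h1 : H1Ord a (Ideal.span {f})) : H1K f a K := by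
  intro c hc hcoc
  have := Fintype.ofFinite ι
  obtain ⟨L, z, hz⟩ := exists_uniform (fun t : ι × ι => a t.1 * a t.2) (fun t => c t.1 t.2)
    fun t => hc t.1 t.2
  let φ := algebraMap A K
  have hz' : ∀ i j, φ (a i) ^ L * φ (a j) ^ L * c i j = φ (z (i, j)) := fun i j => by
    rw [← hz (i, j), map_mul, mul_pow]
  choose r hr using hcoc
  have hq : ∀ t : ι × ι × ι, ∃ l, f ∣ a t.1 ^ l *
      (a t.1 ^ L * z (t.2.1, t.2.2) - a t.2.1 ^ L * z (t.1, t.2.2) + a t.2.2 ^ L * z (t.1, t.2.1)) := by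
    rintro ⟨i, j, l⟩
    obtain ⟨p, hp⟩ := S.exists_pow_dvd (n := 1) (K := K)
      (z := a i ^ L * z (j, l) - a j ^ L * z (i, l) + a l ^ L * z (i, j))
      (r := φ (a i) ^ L * φ (a j) ^ L * φ (a l) ^ L * r i j l) (by
        simp only [map_add, map_sub, map_mul, map_pow, ← hz', φ]
        linear_combination (φ (a i) ^ L * φ (a j) ^ L * φ (a l) ^ L) * hr i j l) i
    exact ⟨p, by simpa using hp⟩
  choose p hp using hq
  let P := Finset.univ.sup p
  obtain ⟨q, w, hw⟩ := h1 (L + P) (fun i j => (a i * a j) ^ P * z (i, j)) fun i j l => by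
    rw [Ideal.mem_span_singleton]
    have := (dvd_mul_of_dvd_right (hp (i, j, l)) (a i ^ (P - p (i, j, l)) * (a j * a l) ^ P))
    convert this using 1
    obtain ⟨d, hd⟩ := Nat.exists_eq_add_of_le (Finset.le_sup (f := p) (Finset.mem_univ (i, j, l)))
    have hP : P = p (i, j, l) + d := hd
    rw [hP, Nat.add_sub_cancel_left]
    ring
  refine ⟨fun i => φ (w i) * (↑((S.isUnit_a (K := K) i).unit⁻¹) : K) ^ (L + P + q), fun i =>
    mul_mem ((Loc K (a i)).algebraMap_mem _) (S.inv_pow_mem dvd_rfl _), fun i j => ?_⟩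
  obtain ⟨v, hv⟩ := Ideal.mem_span_singleton.mp (hw i j)
  let M := L + P + q
  refine ⟨(↑((S.isUnit_a (K := K) i).unit⁻¹) : K) ^ M * (↑((S.isUnit_a (K := K) j).unit⁻¹) : K) ^ M * φ v, ?_⟩
  have h2 := congrArg φ hv
  simp only [map_sub, map_mul, map_pow, φ] at h2
  rw [← hz' i j] at h2
  refine ((((S.isUnit_a (K := K) i).pow M).mul ((S.isUnit_a (K := K) j).pow M))).mul_left_cancel ?_
  have ei : φ (a i) ^ M * (↑((S.isUnit_a (K := K) i).unit⁻¹) : K) ^ M = 1 := by
    rw [← mul_pow, IsUnit.mul_val_inv, one_pow]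
  have ej : φ (a j) ^ M * (↑((S.isUnit_a (K := K) j).unit⁻¹) : K) ^ M = 1 := by
    rw [← mul_pow, IsUnit.mul_val_inv, one_pow]
  simp only [φ, M] at ei ej h2 ⊢
  linear_combination h2 - (φ (a i) ^ M * φ (w j)) * ej + (φ (a j) ^ M * φ (w i)) * ei -
    (φ f * φ v * φ (a j) ^ M * (↑((S.isUnit_a (K := K) j).unit⁻¹) : K) ^ M) * ei -
    (φ f * φ v) * ej

theorem h2K_of_h2Ord (h2 : H2Ord a (Ideal.span {f})) : H2K f a K := by
  intro c hc hcoc
  have := Fintype.ofFinite ι
  obtain ⟨L, z, hz⟩ := exists_uniform (fun t : ι × ι × ι => a t.1 * a t.2.1 * a t.2.2)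
    (fun t => c t.1 t.2.1 t.2.2) fun t => hc t.1 t.2.1 t.2.2
  let φ := algebraMap A K
  have hz' : ∀ i j l, φ (a i) ^ L * φ (a j) ^ L * φ (a l) ^ L * c i j l = φ (z (i, j, l)) :=
    fun i j l => by rw [← hz (i, j, l), map_mul, map_mul, mul_pow, mul_pow]
  choose r hr using hcoc
  have hq : ∀ t : ι × ι × ι × ι, ∃ p, f ∣ a t.1 ^ p *
      (a t.1 ^ L * z (t.2.1, t.2.2.1, t.2.2.2) - a t.2.1 ^ L * z (t.1, t.2.2.1, t.2.2.2) +
        a t.2.2.1 ^ L * z (t.1, t.2.1, t.2.2.2) - a t.2.2.2 ^ L * z (t.1, t.2.1, t.2.2.1)) := by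
    rintro ⟨i, j, l, m⟩
    obtain ⟨p, hp⟩ := S.exists_pow_dvd (n := 1) (K := K)
      (z := a i ^ L * z (j, l, m) - a j ^ L * z (i, l, m) + a l ^ L * z (i, j, m) -
        a m ^ L * z (i, j, l))
      (r := φ (a i) ^ L * φ (a j) ^ L * φ (a l) ^ L * φ (a m) ^ L * r i j l m) (by
        simp only [map_add, map_sub, map_mul, map_pow, ← hz', φ]
        linear_combination (φ (a i) ^ L * φ (a j) ^ L * φ (a l) ^ L * φ (a m) ^ L) * hr i j l m) i
    exact ⟨p, by simpa using hp⟩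
  choose p hp using hq
  let P := Finset.univ.sup p
  obtain ⟨q, h, hh⟩ := h2 (L + P) (fun i j l => (a i * a j * a l) ^ P * z (i, j, l)) fun i j l m => by
    rw [Ideal.mem_span_singleton]
    have := (dvd_mul_of_dvd_right (hp (i, j, l, m)) (a i ^ (P - p (i, j, l, m)) * (a j * a l * a m) ^ P))
    convert this using 1
    obtain ⟨d, hd⟩ := Nat.exists_eq_add_of_le (Finset.le_sup (f := p) (Finset.mem_univ (i, j, l, m)))
    have hP : P = p (i, j, l, m) + d := hd
    rw [hP, Nat.add_sub_cancel_left]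
    ring
  let M := L + P + q
  let e : ι → K := fun i => (↑((S.isUnit_a (K := K) i).unit⁻¹) : K) ^ M
  have he : ∀ i, φ (a i) ^ M * e i = 1 := fun i => by
    simp only [e, φ]
    rw [← mul_pow, IsUnit.mul_val_inv, one_pow]
  refine ⟨fun i j => φ (h i j) * (e i * e j), fun i j => mul_mem ((Loc K _).algebraMap_mem _)
    (mul_mem (S.inv_pow_mem (dvd_mul_right _ _) _) (S.inv_pow_mem (dvd_mul_left _ _) _)),
    fun i j l => ?_⟩
  obtain ⟨v, hv⟩ := Ideal.mem_span_singleton.mp (hh i j l)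
  refine ⟨e i * e j * e l * φ v, ?_⟩
  have h3 := congrArg φ hv
  simp only [map_add, map_sub, map_mul, map_pow, φ] at h3
  rw [← hz' i j l] at h3
  refine ((((S.isUnit_a (K := K) i).pow M).mul ((S.isUnit_a (K := K) j).pow M)).mul
    ((S.isUnit_a (K := K) l).pow M)).mul_left_cancel ?_
  have ei := he i
  have ej := he j
  have el := he l
  simp only [φ, M] at ei ej el h3 ⊢
  generalize e i = x, e j = y, e l = w at ei ej el ⊢
  linear_combination h3 - φ (a i) ^ M * φ (h j l) * (φ (a j) ^ M * y) * el - φ (a i) ^ M * φ (h j l) * ej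
    + φ (a j) ^ M * φ (h i l) * (φ (a i) ^ M * x) * el + φ (a j) ^ M * φ (h i l) * ei
    - φ (a l) ^ M * φ (h i j) * (φ (a i) ^ M * x) * ej - φ (a l) ^ M * φ (h i j) * ei
    - φ f * φ v * (φ (a i) ^ M * x) * (φ (a j) ^ M * y) * el - φ f * φ v * (φ (a i) ^ M * x) * ej
    - φ f * φ v * ei

end Groth.Agent.H80.Divisor
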