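import Groth.Agent.H80.Divisor.Sections
import Mathlib.RingTheory.AdicCompletion.Basic

/-!
# The ideal of a formal Cartier divisor
-/

set_option autoImplicit false

universe u

namespace Groth.Agent.H80.Divisor

open Groth.Agent.H80.Clopen

variable {A : Type u} [CommRing A] {f : A} {ι : Type} {a : ι → A} {K : Type u} [CommRing K]
  [Algebra A K] {G : ℕ → ι → Kˣ} {T : Submonoid A} [IsLocalization T K] (S : Setup f a T)

include S

theorem pow_dvd_of_mul (hsep : Sep a A (Ideal.span {f})) :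
    ∀ {n : ℕ} {z : A} {r : K}, algebraMap A K z = algebraMap A K f ^ n * r → f ^ n ∣ z
  | 0, z, r, _ => by simp
  | n + 1, z, r, h => by
    have h1 : f ∣ z := by
      refine Ideal.mem_span_singleton.mp (mem_smul_top_self.mp (hsep z fun i => ?_))
      obtain ⟨l, hl⟩ := S.exists_pow_dvd h i
      exact ⟨l, mem_smul_top_self.mpr (Ideal.mem_span_singleton.mpr
        (by rw [smul_eq_mul]; exact (dvd_pow_self f n.succ_ne_zero).trans hl))⟩
    obtain ⟨w, rfl⟩ := h1
    rw [pow_succ']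
    refine mul_dvd_mul_left f (pow_dvd_of_mul hsep (n := n) (r := r) (S.f_cancel (K := K) ?_))
    rw [← map_mul, h]; ring

theorem global_pow (hg : GlobalK f a K) :
    ∀ {n : ℕ} {z : K}, (∀ i, OnM f n (a i) z) → ∃ (x : A) (r : K),
      z = algebraMap A K x + algebraMap A K f ^ n * r
  | 0, z, _ => ⟨0, z, by simp⟩
  | n + 1, z, h => by
    obtain ⟨x, r, hr⟩ := global_pow hg fun i => (h i).mono (Nat.le_succ n)
    obtain ⟨y, s, hs⟩ := hg r fun i => S.onM_pow_mul (n := n) dvd_rfl (by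
      have := (h i).sub (OnM.of_mem ((Loc K (a i)).algebraMap_mem x))
      rwa [hr, add_sub_cancel_left] at this)
    exact ⟨x + f ^ n * y, s, by rw [hr, hs, map_add, map_mul, map_pow]; ring⟩

theorem isSec_base [Finite ι] (hG : FormalLine f a G) (k : ι) :
    ∃ L, IsSec f a G 0 (algebraMap A K (a k) ^ L * (↑(G 0 k)⁻¹ : K)) := by
  choose u hu e he using fun i => hG.compat 0 i k
  obtain ⟨L, z, hz⟩ := exists_uniform (fun i => a i * a k) u hu
  refine ⟨L, fun i => ⟨algebraMap A K (a k) ^ L * u i, ⟨L, z i, by rw [← hz i, map_mul]; ring⟩,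
    algebraMap A K (a k) ^ L * e i, ?_⟩⟩
  have := he i
  simp only [Units.val_mul] at this
  linear_combination algebraMap A K (a k) ^ L * this

/-- The ideal of a formal line bundle. -/
theorem exists_ideal [IsNoetherianRing A] [Finite ι] [IsAdicComplete (Ideal.span {f}) A]
    (hG : FormalLine f a G) (hsep : Sep a A (Ideal.span {f})) (hg : GlobalK f a K)
    (h1 : H1K f a K) (o : ι) :
    ∃ (𝔞 : Ideal A) (X₀ : Kˣ), IsSec f a G 0 (X₀ : K) ∧
      ∀ k, ∃ (L : ℕ) (e : A), e ∈ 𝔞 ∧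
        (∃ r : K, algebraMap A K e =
          algebraMap A K (a k) ^ L * (G 0 k : K) * (X₀ : K) + algebraMap A K f * r) ∧
        ∀ z ∈ 𝔞, ∃ N : ℕ, a k ^ N * z ∈ Ideal.span {e} ⊔ Ideal.span {f} * 𝔞 := by
  obtain ⟨L₀, hy₀⟩ := isSec_base S hG o
  obtain ⟨L₁, X, hX, hXc, d, hd⟩ := exists_coherent S hG (cocycle_fg S hG hg h1 o) hy₀ o
  have hu0 : IsUnit (X 0) := by
    rw [hd]
    exact S.isUnit_add (((S.isUnit_a o).pow _).mul (((S.isUnit_a o).pow _).mul (Units.isUnit _))) d
  have hu : ∀ m, IsUnit (X m) := fun m => by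
    induction m with
    | zero => exact hu0
    | succ m ih =>
      obtain ⟨d, hd⟩ := hXc m
      rw [hd, pow_succ', mul_assoc]
      exact S.isUnit_add ih _
  choose x hx using hu
  let G' : ℕ → ι → Kˣ := fun n i => (G n i)⁻¹
  have hG' : FormalLine f a G' := hG.inv
  let 𝔞 : Ideal A :=
    { carrier := {z | ∀ m, IsSec f a G' m (algebraMap A K z * (↑(x m)⁻¹ : K))}
      add_mem' := fun {z z'} h h' m i => by
        convert (h m i).add (h' m i) using 1
        rw [map_add]; ring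
      zero_mem' := fun m i => by simp [OnM.zero]
      smul_mem' := fun c z h m i => by
        convert (h m i).smul c using 1
        rw [smul_eq_mul, map_mul, Algebra.smul_def]; ring }
  have hxc : ∀ m, ∃ d, (↑(x m)⁻¹ : K) = ↑(x (m + 1))⁻¹ + algebraMap A K f ^ (m + 1) * d := fun m => by
    obtain ⟨d, hd⟩ := hXc m
    refine ⟨↑(x m)⁻¹ * ↑(x (m + 1))⁻¹ * d, ?_⟩
    have e1 := (x m).inv_mul
    have e2 := (x (m + 1)).inv_mul
    simp only [hx] at e1 e2
    rw [hd] at e2
    linear_combination -(↑(x m)⁻¹ : K) * e2 + (↑(x (m + 1))⁻¹ : K) * e1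
  have hdiv : ∀ w : A, f * w ∈ 𝔞 → w ∈ 𝔞 := fun w hw m i => by
    have h := hw (m + 1) i
    rw [map_mul, mul_assoc, ← mul_assoc ((G' (m + 1) i : K)), mul_comm (G' (m + 1) i : K) (algebraMap A K f),
      mul_assoc] at h
    obtain ⟨d, hd⟩ := hxc m
    obtain ⟨r, hr⟩ := hG'.cong m i
    refine (S.onM_div dvd_rfl h).congr (d := (G' m i : K) * (algebraMap A K w * d) -
      (G' m i : K) * r * (algebraMap A K w * ↑(x (m + 1))⁻¹)) ?_
    rw [hd, hr]
    ring
  refine ⟨𝔞, x 0, by simpa only [hx] using hX 0, fun k => ?_⟩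
  obtain ⟨L, hy⟩ := isSec_base S hG' k
  obtain ⟨L', Y, hY, hYc, d', hd'⟩ := exists_coherent S hG' (cocycle_fg S hG' hg h1 o) hy k
  choose z r hz using fun m => global_pow S hg ((hX m).mul (hY m))
  have hstep : ∀ m, f ^ (m + 1) ∣ z (m + 1) - z m := fun m => by
    obtain ⟨d, hd⟩ := hXc m
    obtain ⟨d2, hd2⟩ := hYc m
    refine pow_dvd_of_mul S hsep (K := K) (r := d * Y (m + 1) + X m * d2 + r m - algebraMap A K f * r (m + 1)) ?_
    have e1 := hz (m + 1)
    rw [hd] at e1
    rw [map_sub]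
    linear_combination hz m - e1 + X m * hd2
  have hcauchy : ∀ {m n : ℕ}, m ≤ n → f ^ (m + 1) ∣ z n - z m := by
    intro m n h
    induction n, h using Nat.le_induction with
    | base => simp
    | succ n hn ih =>
      rw [show z (n + 1) - z m = (z (n + 1) - z n) + (z n - z m) by ring]
      exact dvd_add ((pow_dvd_pow f (by omega)).trans (hstep n)) ih
  obtain ⟨e, he⟩ := IsPrecomplete.prec (I := Ideal.span {f}) (M := A) inferInstance (f := z) (by
    intro m n h
    rw [SModEq.sub_mem, Ideal.span_singleton_pow, mem_smul_top_self, Ideal.mem_span_singleton]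
    rw [← dvd_neg, neg_sub]
    exact (pow_dvd_pow f (Nat.le_succ m)).trans (hcauchy h))
  have hlim : ∀ m, ∃ c, algebraMap A K e = algebraMap A K (z m) + algebraMap A K f ^ (m + 1) * c := by
    intro m
    have h2 := he (m + 1)
    rw [SModEq.sub_mem, Ideal.span_singleton_pow, mem_smul_top_self, Ideal.mem_span_singleton] at h2
    obtain ⟨c, hc⟩ := dvd_sub (hcauchy (Nat.le_succ m)) h2
    refine ⟨algebraMap A K c, ?_⟩
    rw [← map_pow, ← map_mul, ← hc, ← map_add]
    congr 1; ring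
  refine ⟨L' + L, e, fun m i => ?_, ?_, fun w hw => ?_⟩
  · obtain ⟨c, hc⟩ := hlim m
    have e1 := (x m).inv_mul
    simp only [hx] at e1
    refine (hY m i).congr (d := (G' m i : K) * ↑(x m)⁻¹ * (c - r m)) ?_
    rw [hc]
    linear_combination (G' m i : K) * Y m * e1 - (G' m i : K) * (↑(x m)⁻¹ : K) * hz m
  · obtain ⟨c, hc⟩ := hlim 0
    refine ⟨c - r 0 + X 0 * d', ?_⟩
    have h2 := hz 0
    simp only [zero_add, pow_one] at hc h2
    simp only [hx, G', inv_inv] at hd' ⊢
    rw [hc]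
    linear_combination X 0 * hd' - h2
  · obtain ⟨v, hv, q, hq⟩ := hw 0 k
    obtain ⟨l, p, hp⟩ := hv
    obtain ⟨c, hc⟩ := hlim 0
    have h2 := hz 0
    simp only [zero_add, pow_one] at hc h2 hq
    have h3 : f ∣ a k ^ (l + (L' + L)) * w - p * e := by
      refine (pow_one f) ▸ pow_dvd_of_mul S hsep (n := 1) (K := K)
        (r := algebraMap A K (a k) ^ (l + (L' + L)) * ((G 0 k : K) * X 0 * q) -
          algebraMap A K p * (c - r 0 + X 0 * d')) ?_
      have e1 := (x 0).inv_mul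
      have e3 := (G 0 k).mul_inv
      simp only [hx, G', inv_inv] at hd' hq e1
      simp only [map_sub, map_mul, map_pow, pow_one]
      rw [hc]
      linear_combination (-(algebraMap A K p)) * (X 0 * hd' - h2) +
        (algebraMap A K (a k) ^ (l + (L' + L)) * (G 0 k : K) * X 0) * hq +
        (algebraMap A K (a k) ^ (L' + L) * (G 0 k : K) * X 0) * hp -
        (algebraMap A K (a k) ^ (l + (L' + L)) * algebraMap A K w) * ((↑(x 0)⁻¹ : K) * X 0 * e3 + e1)
    obtain ⟨w', hw'⟩ := h3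
    refine ⟨l + (L' + L), Submodule.mem_sup.mpr ⟨p * e, Ideal.mul_mem_left _ _ (Ideal.mem_span_singleton_self e),
      f * w', Ideal.mul_mem_mul (Ideal.mem_span_singleton_self f) (hdiv w' ?_), by linear_combination -hw'⟩⟩
    rw [← hw']
    refine sub_mem (Ideal.mul_mem_left _ _ hw) (Ideal.mul_mem_left _ _ fun m i => ?_)
    obtain ⟨c, hc⟩ := hlim m
    have e1 := (x m).inv_mul
    simp only [hx] at e1
    refine (hY m i).congr (d := (G' m i : K) * ↑(x m)⁻¹ * (c - r m)) ?_
    rw [hc]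
    linear_combination (G' m i : K) * Y m * e1 - (G' m i : K) * (↑(x m)⁻¹ : K) * hz m

/-- A principal model of the ideal trivialises the divisor. -/
theorem exists_trivial {X₀ : Kˣ} {e' : A}
    (h : ∀ k, ∃ (L l l' : ℕ) (e c c' : A),
      (∃ r : K, algebraMap A K e =
        algebraMap A K (a k) ^ L * (G 0 k : K) * (X₀ : K) + algebraMap A K f * r) ∧
      f ∣ a k ^ l * e - c * e' ∧ f ∣ a k ^ l' * e' - c' * e) (o : ι) :
    ∃ y : Kˣ, ∀ i, OnM f 1 (a i) ((G 0 i : K) * y) ∧ OnM f 1 (a i) ((↑(G 0 i * y)⁻¹ : K)) := by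
  have he' : IsUnit (algebraMap A K e') := by
    obtain ⟨L, l, l', e, c, c', ⟨r, hr⟩, ⟨w, hw⟩, -⟩ := h o
    have hu : IsUnit (algebraMap A K c * algebraMap A K e') := by
      have h2 := congrArg (algebraMap A K) hw
      simp only [map_sub, map_mul, map_pow] at h2
      have h3 : algebraMap A K c * algebraMap A K e' =
          algebraMap A K (a o) ^ l * (algebraMap A K (a o) ^ L * (G 0 o : K) * (X₀ : K)) +
            algebraMap A K f * (algebraMap A K (a o) ^ l * r - algebraMap A K w) := by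
        rw [hr] at h2; linear_combination -h2
      rw [h3]
      exact S.isUnit_add (((S.isUnit_a o).pow _).mul ((((S.isUnit_a o).pow _).mul (Units.isUnit _)).mul
        (Units.isUnit _))) _
    exact (IsUnit.mul_iff.mp hu).2
  refine ⟨X₀ * he'.unit⁻¹, fun k => ?_⟩
  obtain ⟨L, l, l', e, c, c', ⟨r, hr⟩, ⟨w, hw⟩, ⟨w', hw'⟩⟩ := h k
  have h2 := congrArg (algebraMap A K) hw
  have h2' := congrArg (algebraMap A K) hw'
  simp only [map_sub, map_mul, map_pow] at h2 h2'
  rw [hr] at h2 h2'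
  have e1 : algebraMap A K e' * (↑he'.unit⁻¹ : K) = 1 := IsUnit.mul_val_inv _
  constructor
  · refine S.onM_of_pow_mul (i := k) dvd_rfl (l := l + L) ⟨algebraMap A K c, (Loc K _).algebraMap_mem c,
      (algebraMap A K w - algebraMap A K (a k) ^ l * r) * (↑he'.unit⁻¹ : K), ?_⟩
    simp only [Units.val_mul, pow_one]
    linear_combination (↑he'.unit⁻¹ : K) * h2 + algebraMap A K c * e1
  · refine S.onM_of_pow_mul (i := k) dvd_rfl (l := l') ⟨algebraMap A K c' * algebraMap A K (a k) ^ L,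
      mul_mem ((Loc K _).algebraMap_mem _) (pow_mem ((Loc K _).algebraMap_mem _) _),
      (↑(G 0 k)⁻¹ : K) * ↑X₀⁻¹ * (algebraMap A K w' + algebraMap A K c' * r), ?_⟩
    have e2 := (G 0 k).inv_mul
    have e3 := X₀.inv_mul
    simp only [mul_inv_rev, inv_inv, Units.val_mul, IsUnit.unit_spec, pow_one]
    linear_combination ((↑(G 0 k)⁻¹ : K) * ↑X₀⁻¹) * h2' +
      (algebraMap A K c' * algebraMap A K (a k) ^ L) * ((↑X₀⁻¹ : K) * X₀ * e2 + e3)

end Groth.Agent.H80.Divisor
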