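import Groth.Agent.H80.Divisor.Cech2
import Mathlib.RingTheory.Localization.Basic
import Mathlib.Algebra.Algebra.Subalgebra.Basic

/-!
# Numerators and denominators modulo powers of an element

All congruences are computed in one localisation `K` of `A`.
-/

set_option autoImplicit false

universe u

namespace Groth.Agent.H80.Divisor

open Groth.Agent.H80.Clopen

section Loc

variable {A : Type u} [CommRing A] (K : Type u) [CommRing K] [Algebra A K]

/-- The elements of `K` with denominator a power of `b`. -/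
def Loc (b : A) : Subalgebra A K where
  carrier := {x | ∃ (l : ℕ) (z : A), algebraMap A K b ^ l * x = algebraMap A K z}
  mul_mem' := by
    rintro x y ⟨l, z, hz⟩ ⟨l', z', hz'⟩
    exact ⟨l + l', z * z', by rw [map_mul, ← hz, ← hz']; ring⟩
  add_mem' := by
    rintro x y ⟨l, z, hz⟩ ⟨l', z', hz'⟩
    exact ⟨l + l', b ^ l' * z + b ^ l * z', by
      rw [map_add, map_mul, map_mul, ← hz, ← hz', map_pow, map_pow]; ring⟩
  algebraMap_mem' := fun r => ⟨0, r, by simp⟩

variable {K}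

theorem mem_loc {b : A} {x : K} :
    x ∈ Loc K b ↔ ∃ (l : ℕ) (z : A), algebraMap A K b ^ l * x = algebraMap A K z := Iff.rfl

theorem loc_le_mul (b c : A) : Loc K b ≤ Loc K (b * c) := by
  rintro x ⟨l, z, hz⟩
  exact ⟨l, c ^ l * z, by rw [map_mul, map_mul, map_pow, ← hz]; ring⟩

theorem loc_le_of_dvd {b c : A} (h : b ∣ c) : Loc K b ≤ Loc K c := by
  obtain ⟨d, rfl⟩ := h
  exact loc_le_mul b d

theorem mem_loc_of_pow_mul {b : A} {x : K} {l : ℕ} (h : algebraMap A K b ^ l * x ∈ Loc K b) :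
    x ∈ Loc K b := by
  obtain ⟨l', z, hz⟩ := h
  exact ⟨l' + l, z, by rw [pow_add, mul_assoc, hz]⟩

variable (f : A)

/-- Membership in `Loc b` up to multiples of `f ^ n`. -/
def OnM (n : ℕ) (b : A) (x : K) : Prop :=
  ∃ y ∈ Loc K b, ∃ r : K, x = y + algebraMap A K f ^ n * r

variable {f} {n : ℕ} {b : A} {x y : K}

theorem OnM.of_mem (h : x ∈ Loc K b) : OnM f n b x := ⟨x, h, 0, by simp⟩

theorem OnM.mul (hx : OnM f n b x) (hy : OnM f n b y) : OnM f n b (x * y) := by
  obtain ⟨p, hp, r, rfl⟩ := hx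
  obtain ⟨q, hq, s, rfl⟩ := hy
  exact ⟨p * q, mul_mem hp hq, p * s + r * q + algebraMap A K f ^ n * (r * s), by ring⟩

theorem OnM.add (hx : OnM f n b x) (hy : OnM f n b y) : OnM f n b (x + y) := by
  obtain ⟨p, hp, r, rfl⟩ := hx
  obtain ⟨q, hq, s, rfl⟩ := hy
  exact ⟨p + q, add_mem hp hq, r + s, by ring⟩

theorem OnM.neg (hx : OnM f n b x) : OnM f n b (-x) := by
  obtain ⟨p, hp, r, rfl⟩ := hx
  exact ⟨-p, neg_mem hp, -r, by ring⟩

theorem OnM.sub (hx : OnM f n b x) (hy : OnM f n b y) : OnM f n b (x - y) :=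
  sub_eq_add_neg x y ▸ hx.add hy.neg

theorem OnM.smul (c : A) (hx : OnM f n b x) : OnM f n b (c • x) := by
  rw [Algebra.smul_def]
  exact (OnM.of_mem ((Loc K b).algebraMap_mem c)).mul hx

theorem OnM.pow_mul (r : K) : OnM f n b (algebraMap A K f ^ n * r) :=
  ⟨0, zero_mem _, r, by simp⟩

theorem OnM.zero : OnM f n b (0 : K) := OnM.of_mem (zero_mem _)

theorem OnM.mono {m : ℕ} (h : m ≤ n) (hx : OnM f n b x) : OnM f m b x := by
  obtain ⟨p, hp, r, rfl⟩ := hx
  obtain ⟨d, rfl⟩ := Nat.exists_eq_add_of_le h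
  exact ⟨p, hp, algebraMap A K f ^ d * r, by ring⟩

theorem OnM.dvd {c : A} (h : b ∣ c) (hx : OnM f n b x) : OnM f n c x := by
  obtain ⟨p, hp, r, rfl⟩ := hx
  exact ⟨p, loc_le_of_dvd h hp, r, rfl⟩

theorem OnM.sum {κ : Type*} (s : Finset κ) (z : κ → K) (h : ∀ k ∈ s, OnM f n b (z k)) :
    OnM f n b (∑ k ∈ s, z k) :=
  Finset.sum_induction _ _ (fun _ _ => OnM.add) OnM.zero h

theorem OnM.f_mul (hx : OnM f n b x) : OnM f (n + 1) b (algebraMap A K f * x) := by
  obtain ⟨p, hp, r, rfl⟩ := hx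
  exact ⟨algebraMap A K f * p, mul_mem ((Loc K b).algebraMap_mem f) hp, r, by ring⟩

/-- Congruent elements. -/
theorem OnM.congr {d : K} (hx : OnM f n b x) (h : y = x + algebraMap A K f ^ n * d) : OnM f n b y :=
  h ▸ hx.add (OnM.pow_mul d)

end Loc

/-- Hypotheses on the denominators allowed in the localisation. -/
structure Setup {A : Type u} [CommRing A] (f : A) {ι : Type} (a : ι → A) (T : Submonoid A) : Prop where
  f_reg : ∀ x, f * x = 0 → x = 0
  a_mem : ∀ i, a i ∈ T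
  add_mem : ∀ t ∈ T, ∀ z, t + f * z ∈ T
  tors : ∀ t ∈ T, ∀ x, f ∣ t * x → ∀ i, ∃ l, f ∣ a i ^ l * x

namespace Setup

variable {A : Type u} [CommRing A] {f : A} {ι : Type} {a : ι → A} {T : Submonoid A}
  (S : Setup f a T) {K : Type u} [CommRing K] [Algebra A K] [IsLocalization T K]

include S

theorem f_cancel {x y : K} (h : algebraMap A K f * x = algebraMap A K f * y) : x = y := by
  rw [← sub_eq_zero] at h ⊢
  rw [← mul_sub] at h
  obtain ⟨⟨z, t⟩, hz⟩ := IsLocalization.surj T (x - y)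
  have h1 : algebraMap A K (f * z) = 0 := by rw [map_mul, ← hz, ← mul_assoc, h, zero_mul]
  obtain ⟨t', ht'⟩ := (IsLocalization.map_eq_zero_iff T K _).mp h1
  have h2 : (t' : A) * z = 0 := S.f_reg _ (by linear_combination ht')
  have h3 : algebraMap A K z = 0 := (IsLocalization.map_eq_zero_iff T K _).mpr ⟨t', h2⟩
  rw [h3] at hz
  exact (IsLocalization.map_units K t).mul_left_eq_zero.mp hz

theorem pow_cancel {x y : K} : ∀ {n : ℕ},
    algebraMap A K f ^ n * x = algebraMap A K f ^ n * y → x = y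
  | 0, h => by simpa using h
  | n + 1, h => pow_cancel (n := n) (S.f_cancel (by rw [← mul_assoc, ← mul_assoc, ← pow_succ', h]))

theorem tors_pow {t : A} (ht : t ∈ T) (i : ι) :
    ∀ (n : ℕ) (x : A), f ^ n ∣ t * x → ∃ l, f ^ n ∣ a i ^ l * x
  | 0, x, _ => ⟨0, by simp⟩
  | n + 1, x, h => by
    obtain ⟨l, y, hy⟩ := S.tors t ht x ((dvd_pow_self f n.succ_ne_zero).trans h) i
    obtain ⟨w, hw⟩ := h
    have h1 : t * y = f ^ n * (a i ^ l * w) := by
      rw [← sub_eq_zero]
      refine S.f_reg _ ?_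
      rw [pow_succ] at hw
      linear_combination (a i ^ l) * hw - t * hy
    obtain ⟨l', hl'⟩ := tors_pow ht i n y ⟨_, h1⟩
    refine ⟨l' + l, ?_⟩
    rw [pow_succ', pow_add, mul_assoc, hy, ← mul_assoc, mul_comm (a i ^ l') f, mul_assoc]
    exact mul_dvd_mul_left f hl'

theorem exists_pow_dvd {n : ℕ} {z : A} {r : K} (h : algebraMap A K z = algebraMap A K f ^ n * r)
    (i : ι) : ∃ l, f ^ n ∣ a i ^ l * z := by
  obtain ⟨⟨p, t⟩, hp⟩ := IsLocalization.surj T r
  have h1 : algebraMap A K ((t : A) * z) = algebraMap A K (f ^ n * p) := by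
    rw [map_mul, map_mul, map_pow, h, ← hp]; ring
  obtain ⟨t', ht'⟩ := (IsLocalization.eq_iff_exists T K).mp h1
  exact S.tors_pow (T.mul_mem t'.2 t.2) i n z ⟨t' * p, by linear_combination ht'⟩

theorem isUnit_a (i : ι) : IsUnit (algebraMap A K (a i)) :=
  IsLocalization.map_units K (⟨_, S.a_mem i⟩ : T)

theorem isUnit_add {x : K} (hx : IsUnit x) (r : K) : IsUnit (x + algebraMap A K f * r) := by
  suffices h : ∀ r : K, IsUnit (1 + algebraMap A K f * r) by
    obtain ⟨u, rfl⟩ := hx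
    have := u.isUnit.mul (h (↑u⁻¹ * r))
    rwa [mul_add, mul_one, mul_left_comm (algebraMap A K f), ← mul_assoc (u : K), Units.mul_inv,
      one_mul] at this
  intro r
  obtain ⟨⟨p, t⟩, hp⟩ := IsLocalization.surj T r
  have h1 : algebraMap A K ((t : A) + f * p) = algebraMap A K t * (1 + algebraMap A K f * r) := by
    rw [map_add, map_mul, ← hp]; ring
  exact (IsUnit.mul_iff.mp (h1 ▸ IsLocalization.map_units K (⟨_, S.add_mem t t.2 p⟩ : T))).2

/-- Intersections with multiples of `f ^ n`. -/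
theorem loc_of_pow_mul {b : A} {i : ι} (hb : a i ∣ b) {n : ℕ} {r : K}
    (h : algebraMap A K f ^ n * r ∈ Loc K b) : r ∈ Loc K b := by
  obtain ⟨l, z, hz⟩ := h
  obtain ⟨m, w, hw⟩ := S.exists_pow_dvd (n := n) (r := algebraMap A K b ^ l * r) (by rw [← hz]; ring) i
  obtain ⟨c, rfl⟩ := hb
  refine ⟨l + m, c ^ m * w, S.pow_cancel (n := n) ?_⟩
  have h2 := congrArg (algebraMap A K) hw
  rw [map_mul, map_mul, map_pow, map_pow] at h2
  rw [map_mul] at hz
  rw [map_mul, map_mul, map_pow, mul_left_comm _ (algebraMap A K c ^ m), ← h2]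
  linear_combination ((algebraMap A K (a i) * algebraMap A K c) ^ m) * hz

theorem onM_div {b : A} {i : ι} (hb : a i ∣ b) {n : ℕ} {x : K}
    (h : OnM f (n + 1) b (algebraMap A K f * x)) : OnM f n b x := by
  obtain ⟨y, hy, r, hr⟩ := h
  have h1 : algebraMap A K f ^ 1 * (x - algebraMap A K f ^ n * r) = y := by
    rw [pow_one, mul_sub, hr]; ring
  exact ⟨_, S.loc_of_pow_mul hb (n := 1) (h1 ▸ hy), r, by ring⟩

theorem onM_pow_mul {b : A} {i : ι} (hb : a i ∣ b) {n : ℕ} {r : K}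
    (h : OnM f (n + 1) b (algebraMap A K f ^ n * r)) : OnM f 1 b r := by
  induction n generalizing r with
  | zero => simpa using h
  | succ n ih => exact ih (S.onM_div hb (by rwa [pow_succ', mul_assoc] at h))

theorem inv_pow_mem {b : A} {i : ι} (hb : a i ∣ b) (l : ℕ) :
    (↑((S.isUnit_a (K := K) i).unit⁻¹) : K) ^ l ∈ Loc K b := by
  obtain ⟨c, rfl⟩ := hb
  refine ⟨l, c ^ l, ?_⟩
  rw [map_mul, mul_pow, mul_right_comm, ← mul_pow, IsUnit.mul_val_inv, one_pow, one_mul, map_pow]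

theorem onM_of_pow_mul {b : A} {i : ι} (hb : a i ∣ b) {n l : ℕ} {x : K}
    (h : OnM f n b (algebraMap A K (a i) ^ l * x)) : OnM f n b x := by
  have := (OnM.of_mem (f := f) (n := n) (S.inv_pow_mem hb l)).mul h
  rwa [← mul_assoc, ← mul_pow, IsUnit.val_inv_mul, one_pow, one_mul] at this

end Setup

end Groth.Agent.H80.Divisor
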