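import Groth.Agent.H80.Divisor.CechK

/-!
# Lifting Cartier divisors to formal neighbourhoods
-/

set_option autoImplicit false

universe u

namespace Groth.Agent.H80.Divisor

variable {A : Type u} [CommRing A] {f : A} {ι : Type} {a : ι → A} {K : Type u} [CommRing K]
  [Algebra A K]

variable (f a) in
/-- The quotients `g i / g j` are functions on the overlaps modulo `f ^ n`. -/
def Compat' (n : ℕ) (g : ι → Kˣ) : Prop :=
  ∀ i j, OnM f n (a i * a j) ((g i * (g j)⁻¹ : Kˣ) : K)

variable (f) in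
/-- Congruence of families of units modulo `f ^ n`. -/
def Cong (n : ℕ) (g g' : ι → Kˣ) : Prop :=
  ∀ i, ∃ r : K, (g' i : K) = g i * (1 + algebraMap A K f ^ n * r)

theorem Cong.refl (n : ℕ) (g : ι → Kˣ) : Cong f n g g := fun i => ⟨0, by simp⟩

theorem Cong.mono {n m : ℕ} (h : m ≤ n) {g g' : ι → Kˣ} (hg : Cong f n g g') : Cong f m g g' :=
  fun i => by
    obtain ⟨r, hr⟩ := hg i
    obtain ⟨d, rfl⟩ := Nat.exists_eq_add_of_le h
    exact ⟨algebraMap A K f ^ d * r, by rw [hr, pow_add]; ring⟩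

theorem Cong.trans {n : ℕ} {g g' g'' : ι → Kˣ} (h : Cong f n g g') (h' : Cong f n g' g'') :
    Cong f n g g'' := fun i => by
  obtain ⟨r, hr⟩ := h i
  obtain ⟨s, hs⟩ := h' i
  exact ⟨r + s + algebraMap A K f ^ n * (r * s), by rw [hs, hr]; ring⟩

theorem Cong.ratio {n : ℕ} {g g' : ι → Kˣ} (h : Cong f n g g') (i j : ι) :
    ∃ d : K, ((g i * (g j)⁻¹ : Kˣ) : K) =
      ((g' i * (g' j)⁻¹ : Kˣ) : K) + algebraMap A K f ^ n * d := by
  obtain ⟨r, hr⟩ := h i
  obtain ⟨s, hs⟩ := h j
  refine ⟨((g i * (g j)⁻¹ : Kˣ) : K) * (↑(g j) * ↑(g' j)⁻¹) * (s - r), ?_⟩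
  have e1 := (g j).mul_inv
  have e2 := (g' j).mul_inv
  simp only [Units.val_mul]
  rw [hr]
  rw [hs] at e2
  linear_combination -((g i : K) * ↑(g j)⁻¹) * e2 +
    ((g i : K) * ↑(g' j)⁻¹ * (1 + algebraMap A K f ^ n * r)) * e1

theorem Cong.inv {n : ℕ} {g g' : ι → Kˣ} (h : Cong f n g g') :
    Cong f n (fun i => (g i)⁻¹) fun i => (g' i)⁻¹ := fun i => by
  obtain ⟨r, hr⟩ := h i
  refine ⟨-(↑(g i) * ↑(g' i)⁻¹ * r), ?_⟩
  have e1 := (g i).mul_inv
  have e2 := (g' i).mul_inv
  rw [hr] at e2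
  linear_combination (↑(g i)⁻¹ : K) * e2 - (↑(g' i)⁻¹ : K) * e1

theorem Compat'.inv {n : ℕ} {g : ι → Kˣ} (h : Compat' f a n g) :
    Compat' f a n fun i => (g i)⁻¹ := fun i j => by
  have := h j i
  rw [mul_comm (a j)] at this
  rwa [inv_inv, mul_comm ((g i)⁻¹)]

variable {T : Submonoid A} [IsLocalization T K] (S : Setup f a T)

include S

/-- One step of lifting. -/
theorem exists_lift (h2 : H2K f a K) {n : ℕ} (hn : 1 ≤ n) (g : ι → Kˣ) (hg : Compat' f a n g) :
    ∃ g' : ι → Kˣ, Cong f n g g' ∧ Compat' f a (n + 1) g' := by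
  let φ := algebraMap A K
  let d : ι → ι → K := fun i j => ((g i * (g j)⁻¹ : Kˣ) : K)
  have hdd : ∀ i j l, d i j * d j l = d i l := fun i j l => by
    simp only [d, ← Units.val_mul]; congr 1; group
  have hdone : ∀ i j, d i j * d j i = 1 := fun i j => by
    rw [hdd]; simp [d]
  choose u hu ε hε using hg
  let e : ι → ι → K := fun i j => ε i j * d j i
  have h1n : (1 : ℕ) ≤ n := hn
  have dO : ∀ i j, OnM f n (a i * a j) (d i j) := fun i j => ⟨_, hu i j, _, hε i j⟩
  have up : ∀ {i j l : ι}, (a i * a j ∣ a i * a j * a l) ∧ (a i * a l ∣ a i * a j * a l) ∧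
      (a j * a l ∣ a i * a j * a l) := fun {i j l} =>
    ⟨dvd_mul_right _ _, ⟨a j, by ring⟩, ⟨a i, by ring⟩⟩
  have hc : ∀ i j l, OnM f 1 (a i * a j * a l) (e j l - e i l + e i j) := by
    intro i j l
    have key : φ f ^ n * (ε i l - u j l * ε i j - u i j * ε j l - φ f ^ n * (ε i j * ε j l)) =
        u i j * u j l - u i l := by
      have := hdd i j l
      simp only [d, φ] at this ⊢
      rw [hε, hε, hε] at this
      linear_combination -this
    have hQ : ε i l - u j l * ε i j - u i j * ε j l - φ f ^ n * (ε i j * ε j l) ∈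
        Loc K (a i * a j * a l) := by
      refine S.loc_of_pow_mul (i := i) (n := n) (dvd_mul_of_dvd_left (dvd_mul_right _ _) _) ?_
      rw [key]
      exact sub_mem (mul_mem (loc_le_of_dvd up.1 (hu i j)) (loc_le_of_dvd up.2.2 (hu j l)))
        (loc_le_of_dvd up.2.1 (hu i l))
    have hd : OnM f 1 (a i * a j * a l) (d l i) :=
      ((dO l i).mono h1n).dvd (by rw [mul_comm]; exact up.2.1)
    obtain ⟨p, hp⟩ := Nat.exists_eq_add_of_le hn
    refine ((OnM.of_mem hQ).mul hd).neg.congr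
      (d := φ f ^ p * (ε i j * ε j l * d l i)) ?_
    have a1 := hε j l
    have a2 := hε i j
    simp only [e, pow_one, φ] at *
    have b2 : d j l * d l i = d j i := hdd _ _ _
    have b3 : d i j * d l i = d l j := by rw [mul_comm, hdd]
    have fp : algebraMap A K f ^ n = algebraMap A K f * algebraMap A K f ^ p := by
      rw [hp, pow_add, pow_one]
    change d j l = _ at a1
    change d i j = _ at a2
    linear_combination (ε j l * d l i) * a2 + (ε i j * d l i) * a1 - ε j l * b3 - ε i j * b2 +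
      (ε i j * ε j l * d l i) * fp
  choose c hcm rc hrc using hc
  obtain ⟨h, hh, hhc⟩ := h2 c hcm fun i j l m => by
    refine ⟨-rc j l m + rc i l m - rc i j m + rc i j l, ?_⟩
    have := hrc j l m; have := hrc i l m; have := hrc i j m; have := hrc i j l
    simp only [pow_one] at *
    linear_combination -hrc j l m + hrc i l m - hrc i j m + hrc i j l
  choose s hs using hhc
  rcases isEmpty_or_nonempty ι with hι | ⟨⟨o⟩⟩
  · exact ⟨g, Cong.refl n g, fun i => isEmptyElim i⟩
  let y : ι → K := fun i => e i o - h i o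
  have hy : ∀ i j, ∃ r : K, e i j = h i j + (y i - y j) + φ f * r := fun i j => by
    refine ⟨rc i j o + s i j o, ?_⟩
    have := hrc i j o
    simp only [pow_one, y, φ] at this ⊢
    linear_combination this + hs i j o
  choose w hw using hy
  have hunit : ∀ i, IsUnit (1 - φ f ^ n * y i) := fun i => by
    obtain ⟨p, hp⟩ := Nat.exists_eq_add_of_le hn
    have := S.isUnit_add (K := K) isUnit_one (-(φ f ^ p * y i))
    rwa [mul_neg, ← sub_eq_add_neg, ← mul_assoc, ← pow_succ', show p + 1 = n by omega] at this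
  let g' : ι → Kˣ := fun i => g i * (hunit i).unit
  refine ⟨g', fun i => ⟨-y i, by simp [g', sub_eq_add_neg, φ]⟩, fun i j => ?_⟩
  have hP : OnM f (n + 1) (a i * a j) (u i j + φ f ^ n * (d i j * h i j)) := by
    obtain ⟨p, hp, r, hr⟩ := ((dO i j).mono h1n).mul (OnM.of_mem (f := f) (n := 1) (hh i j))
    rw [hr, pow_one]
    refine ⟨u i j + φ f ^ n * p, add_mem (hu i j) (mul_mem (pow_mem ((Loc K _).algebraMap_mem f) n) hp),
      r, by ring⟩
  have h1 := (hunit i).unit.mul_inv
  have h2' := (hunit j).unit.mul_inv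
  have hij := hw i j
  have hd1 := hdone i j
  have hεij := hε i j
  obtain ⟨p, hp⟩ := Nat.exists_eq_add_of_le hn
  refine hP.congr (d := d i j * w i j + φ f ^ p * (↑((hunit j).unit⁻¹) * d i j * (y j * (y j - y i)))) ?_
  simp only [g', mul_inv_rev, Units.val_mul, IsUnit.unit_spec, y, e] at *
  change d i j = _ at hεij
  have hdd' : (g i : K) * ↑(g j)⁻¹ = d i j := by simp [d]
  have fp : φ f ^ n = φ f * φ f ^ p := by rw [hp, pow_add, pow_one]
  simp only [φ] at *
  linear_combination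
    (1 - algebraMap A K f ^ n * (e i o - h i o)) * (↑((hunit j).unit⁻¹) : K) * hdd' +
    hεij + (algebraMap A K f ^ n * d i j) * hij - (algebraMap A K f ^ n * ε i j) * hd1 +
    (d i j * (1 - algebraMap A K f ^ n * ((e i o - h i o) - (e j o - h j o)))) * h2' +
    (algebraMap A K f ^ n * (↑((hunit j).unit⁻¹) : K) * d i j * ((e j o - h j o) * ((e j o - h j o) - (e i o - h i o)))) * fp

/-- A compatible system. -/
theorem exists_formal (h2 : H2K f a K) (g : ι → Kˣ) (hg : Compat' f a 1 g) :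
    ∃ G : ℕ → ι → Kˣ, G 0 = g ∧ (∀ n, Compat' f a (n + 1) (G n)) ∧
      ∀ n, Cong f (n + 1) (G n) (G (n + 1)) := by
  choose next hnext using fun (n : ℕ) (G : {G : ι → Kˣ // Compat' f a (n + 1) G}) =>
    exists_lift S h2 n.succ_pos G.1 G.2
  let seq : ∀ n : ℕ, {G : ι → Kˣ // Compat' f a (n + 1) G} := fun n =>
    Nat.rec ⟨g, hg⟩ (fun m G => ⟨next m G, (hnext m G).2⟩) n
  exact ⟨fun n => (seq n).1, rfl, fun n => (seq n).2, fun n => (hnext n (seq n)).1⟩

end Groth.Agent.H80.Divisor
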