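import Groth.Agent.H80.Divisor.Lift

/-!
# Formal sections of a formal line bundle
-/

set_option autoImplicit false

universe u

namespace Groth.Agent.H80.Divisor

variable {A : Type u} [CommRing A] {f : A} {ι : Type} {a : ι → A} {K : Type u} [CommRing K]
  [Algebra A K]

variable (f a) in
/-- A formal compatible system. -/
structure FormalLine (G : ℕ → ι → Kˣ) : Prop where
  compat : ∀ n, Compat' f a (n + 1) (G n)
  cong : ∀ n, Cong f (n + 1) (G n) (G (n + 1))

theorem FormalLine.inv {G : ℕ → ι → Kˣ} (hG : FormalLine f a G) :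
    FormalLine f a fun n i => (G n i)⁻¹ :=
  ⟨fun n => (hG.compat n).inv, fun n => (hG.cong n).inv⟩

theorem FormalLine.cong_zero {G : ℕ → ι → Kˣ} (hG : FormalLine f a G) :
    ∀ n, Cong f 1 (G 0) (G n)
  | 0 => Cong.refl 1 _
  | n + 1 => (hG.cong_zero n).trans ((hG.cong n).mono (Nat.succ_pos n))

variable (f a) in
/-- Sections at level `n`. -/
def IsSec (G : ℕ → ι → Kˣ) (n : ℕ) (x : K) : Prop :=
  ∀ i, OnM f (n + 1) (a i) ((G n i : K) * x)

variable {G : ℕ → ι → Kˣ}

theorem IsSec.congr {n : ℕ} {x y d : K} (hx : IsSec f a G n x)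
    (h : y = x + algebraMap A K f ^ (n + 1) * d) : IsSec f a G n y :=
  fun i => (hx i).congr (d := (G n i : K) * d) (by rw [h]; ring)

theorem IsSec.smul {n : ℕ} {x : K} (c : A) (hx : IsSec f a G n x) : IsSec f a G n (c • x) :=
  fun i => by
    rw [mul_smul_comm]
    exact (hx i).smul c

theorem IsSec.pred {n : ℕ} {x : K} (hG : FormalLine f a G) (hx : IsSec f a G (n + 1) x) :
    IsSec f a G n x := fun i => by
  obtain ⟨r, hr⟩ := hG.cong n i
  exact ((hx i).mono (Nat.le_succ _)).congr (d := -((G n i : K) * r * x)) (by rw [hr]; ring)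

theorem IsSec.f_mul {n : ℕ} {x : K} (hG : FormalLine f a G) (hx : IsSec f a G n x) :
    IsSec f a G (n + 1) (algebraMap A K f * x) := fun i => by
  obtain ⟨r, hr⟩ := hG.cong n i
  refine (hx i).f_mul.congr (d := (G n i : K) * r * x) ?_
  rw [hr]; ring

theorem IsSec.mul {n : ℕ} {x y : K} (hx : IsSec f a G n x)
    (hy : IsSec f a (fun n i => (G n i)⁻¹) n y) : ∀ i, OnM f (n + 1) (a i) (x * y) := fun i => by
  have := (hx i).mul (hy i)
  rwa [mul_mul_mul_comm, Units.mul_inv, one_mul] at this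

variable (f a G) in
/-- Obstruction cocycles. -/
def Cocycle : Submodule A (ι → K) where
  carrier := {r | ∀ i j, OnM f 1 (a i * a j) (r i - ((G 0 i * (G 0 j)⁻¹ : Kˣ) : K) * r j)}
  add_mem' := fun {r s} hr hs i j => by
    convert (hr i j).add (hs i j) using 1
    simp only [Pi.add_apply]; ring
  zero_mem' := fun i j => by simp [OnM.zero]
  smul_mem' := fun c r hr i j => by
    convert (hr i j).smul c using 1
    simp only [Pi.smul_apply, smul_sub, mul_smul_comm]

variable (f a G) in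
/-- Coboundaries. -/
def Cobound : Submodule A (ι → K) where
  carrier := {r | ∃ y : K, ∀ i, OnM f 1 (a i) (r i - (G 0 i : K) * y)}
  add_mem' := fun {r s} ⟨y, hy⟩ ⟨z, hz⟩ => ⟨y + z, fun i => by
    convert (hy i).add (hz i) using 1
    simp only [Pi.add_apply]; ring⟩
  zero_mem' := ⟨0, fun i => by simp [OnM.zero]⟩
  smul_mem' := fun c r ⟨y, hy⟩ => ⟨c • y, fun i => by
    convert (hy i).smul c using 1
    simp only [Pi.smul_apply, smul_sub, mul_smul_comm]⟩

variable (f a G) in
/-- Cocycles killed in level `n + 2`. -/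
def Killed (n : ℕ) : Submodule A (ι → K) where
  carrier := {r | ∃ x : K, ∀ i,
    OnM f (n + 2) (a i) ((G (n + 1) i : K) * x - algebraMap A K f ^ (n + 1) * r i)}
  add_mem' := fun {r s} ⟨x, hx⟩ ⟨z, hz⟩ => ⟨x + z, fun i => by
    convert (hx i).add (hz i) using 1
    simp only [Pi.add_apply]; ring⟩
  zero_mem' := ⟨0, fun i => by simp [OnM.zero]⟩
  smul_mem' := fun c r ⟨x, hx⟩ => ⟨c • x, fun i => by
    convert (hx i).smul c using 1
    simp only [Pi.smul_apply, smul_sub, mul_smul_comm]⟩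

theorem killed_mono (hG : FormalLine f a G) : Monotone (Killed f a G) := by
  refine monotone_nat_of_le_succ fun n r hr => ?_
  obtain ⟨x, hx⟩ := hr
  refine ⟨algebraMap A K f * x, fun i => ?_⟩
  obtain ⟨s, hs⟩ := hG.cong (n + 1) i
  exact (hx i).f_mul.congr (d := (G (n + 1) i : K) * s * x) (by rw [hs]; ring)

theorem cobound_le_killed (hG : FormalLine f a G) (n : ℕ) : Cobound f a G ≤ Killed f a G n := by
  rintro r ⟨y, hy⟩
  refine ⟨algebraMap A K f ^ (n + 1) * y, fun i => ?_⟩
  obtain ⟨s, hs⟩ := hG.cong_zero (n + 1) i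
  obtain ⟨p, hp, q, hq⟩ := hy i
  refine ⟨-(algebraMap A K f ^ (n + 1) * p),
    neg_mem (mul_mem (pow_mem ((Loc K _).algebraMap_mem f) _) hp), (G 0 i : K) * s * y - q, ?_⟩
  rw [pow_one] at hq hs
  rw [hs]
  linear_combination -(algebraMap A K f ^ (n + 1)) * hq

variable {T : Submonoid A} [IsLocalization T K] (S : Setup f a T)

include S

/-- The obstruction of a section. -/
theorem exists_obstruction (hG : FormalLine f a G) {n : ℕ} {x : K} (hx : IsSec f a G n x) :
    ∃ r ∈ Cocycle f a G, ∀ i,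
      OnM f (n + 2) (a i) ((G (n + 1) i : K) * x - algebraMap A K f ^ (n + 1) * r i) := by
  have h : ∀ i, OnM f (n + 1) (a i) ((G (n + 1) i : K) * x) := fun i => by
    obtain ⟨s, hs⟩ := hG.cong n i
    exact (hx i).congr (d := (G n i : K) * s * x) (by rw [hs]; ring)
  choose v hv r hr using h
  refine ⟨r, fun i j => ?_, fun i => ⟨v i, hv i, 0, by rw [hr]; ring⟩⟩
  obtain ⟨u, hu, e, he⟩ := hG.compat (n + 1) i j
  have hz : algebraMap A K f ^ (n + 1) *
      (r i - u * r j - algebraMap A K f * e * ((G (n + 1) j : K) * x)) = u * v j - v i := by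
    have := (G (n + 1) j).inv_mul
    simp only [Units.val_mul] at he
    linear_combination -hr i + u * hr j +
      ((G (n + 1) j : K) * x) * he - ((G (n + 1) i : K) * x) * this
  have hw : r i - u * r j - algebraMap A K f * e * ((G (n + 1) j : K) * x) ∈ Loc K (a i * a j) := by
    refine S.loc_of_pow_mul (i := i) (dvd_mul_right _ _) (n := n + 1) ?_
    rw [hz]
    exact sub_mem (mul_mem hu (loc_le_of_dvd (dvd_mul_left _ _) (hv j)))
      (loc_le_of_dvd (dvd_mul_right _ _) (hv i))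
  obtain ⟨d, hd⟩ := (hG.cong_zero (n + 1)).ratio i j
  refine (OnM.of_mem hw).congr (d := -d * r j - algebraMap A K f ^ (n + 1) * e * r j + e * ((G (n + 1) j : K) * x)) ?_
  rw [he, pow_one] at hd
  rw [pow_one, hd]
  ring

theorem exists_kill (hG : FormalLine f a G) [Finite ι] {n : ℕ} {x : K} (hx : IsSec f a G n x) (k : ι) :
    ∃ (L : ℕ) (x' : K), IsSec f a G (n + 1) x' ∧
      ∃ d, x' = algebraMap A K (a k) ^ L * x + algebraMap A K f ^ (n + 1) * d := by
  obtain ⟨r, hr, hobs⟩ := exists_obstruction S hG hx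
  choose w hw q hq using hr
  obtain ⟨L, z, hz⟩ := exists_uniform (fun i => a i * a k) (fun i => w i k) fun i => hw i k
  let y : K := (↑(G 0 k)⁻¹ : K) * (algebraMap A K (a k) ^ L * r k)
  refine ⟨L, algebraMap A K (a k) ^ L * x - algebraMap A K f ^ (n + 1) * y, fun i => ?_,
    -y, by ring⟩
  obtain ⟨s, hs⟩ := hG.cong_zero (n + 1) i
  have hw' : algebraMap A K (a k) ^ L * w i k ∈ Loc K (a i) :=
    ⟨L, z i, by rw [← hz i, map_mul]; ring⟩
  obtain ⟨p, hp, t, ht⟩ := hobs i
  refine ⟨algebraMap A K (a k) ^ L * p + algebraMap A K f ^ (n + 1) * (algebraMap A K (a k) ^ L * w i k),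
    add_mem (mul_mem (pow_mem ((Loc K _).algebraMap_mem _) _) hp)
      (mul_mem (pow_mem ((Loc K _).algebraMap_mem f) _) hw'),
    algebraMap A K (a k) ^ L * t + algebraMap A K (a k) ^ L * q i k - (G 0 i : K) * s * y, ?_⟩
  have h1 := hq i k
  simp only [Units.val_mul, pow_one] at h1 hs
  rw [hs] at ht ⊢
  simp only [y]
  linear_combination (algebraMap A K (a k) ^ L) * ht +
    (algebraMap A K f ^ (n + 1) * algebraMap A K (a k) ^ L) * h1

omit S [IsLocalization T K] in
/-- Stabilisation of the killed cocycles. -/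
theorem exists_stable [IsNoetherianRing A] (hG : FormalLine f a G)
    (hfin : ∃ N : Submodule A (ι → K), N.FG ∧ Cocycle f a G ≤ N ⊔ Cobound f a G) :
    ∃ n₀, ∀ n, ∀ r ∈ Cocycle f a G, r ∈ Killed f a G n → r ∈ Killed f a G n₀ := by
  obtain ⟨N, hN, hle⟩ := hfin
  have := Module.Finite.iff_fg.mpr hN
  have := isNoetherian_of_isNoetherianRing_of_finite A N
  let F : ℕ →o Submodule A N := ⟨fun n => (Killed f a G n).comap N.subtype,
    fun m n h => Submodule.comap_mono (killed_mono hG h)⟩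
  obtain ⟨n₀, hn₀⟩ := monotone_stabilizes_iff_noetherian.mpr inferInstance F
  refine ⟨n₀, fun n r hr hk => ?_⟩
  rcases le_total n n₀ with h | h
  · exact killed_mono hG h hk
  obtain ⟨b, hb, c, hc, rfl⟩ := Submodule.mem_sup.mp (hle hr)
  have h1 : b ∈ Killed f a G n := (Submodule.add_mem_iff_left _ (cobound_le_killed hG n hc)).mp hk
  have h2 : (⟨b, hb⟩ : N) ∈ F n₀ := by
    rw [hn₀ n h]
    exact h1
  exact add_mem h2 (cobound_le_killed hG n₀ hc)

/-- Coherent sequences of sections starting near a given one. -/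
theorem exists_coherent [IsNoetherianRing A] [Finite ι] (hG : FormalLine f a G)
    (hfin : ∃ N : Submodule A (ι → K), N.FG ∧ Cocycle f a G ≤ N ⊔ Cobound f a G)
    {y : K} (hy : IsSec f a G 0 y) (k : ι) :
    ∃ (L : ℕ) (X : ℕ → K), (∀ m, IsSec f a G m (X m)) ∧
      (∀ m, ∃ d, X (m + 1) = X m + algebraMap A K f ^ (m + 1) * d) ∧
      ∃ d, X 0 = algebraMap A K (a k) ^ L * y + algebraMap A K f * d := by
  obtain ⟨n₀, hn₀⟩ := exists_stable hG hfin
  have up : ∀ n, ∃ (L : ℕ) (x : K), IsSec f a G n x ∧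
      ∃ d, x = algebraMap A K (a k) ^ L * y + algebraMap A K f * d := by
    intro n
    induction n with
    | zero => exact ⟨0, y, hy, 0, by simp⟩
    | succ n ih =>
      obtain ⟨L, x, hx, d, rfl⟩ := ih
      obtain ⟨L', x', hx', d', rfl⟩ := exists_kill S hG hx k
      exact ⟨L' + L, _, hx', algebraMap A K (a k) ^ L' * d + algebraMap A K f ^ n * d', by ring⟩
  obtain ⟨L, x₀, hx₀, d₀, hd₀⟩ := up (n₀ + 1)
  have step : ∀ (m : ℕ) (x : K), IsSec f a G (n₀ + 1 + m) x →
      ∃ x', IsSec f a G (n₀ + 1 + (m + 1)) x' ∧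
        ∃ d, x' = x + algebraMap A K f ^ (m + 1) * d := by
    intro m x hx
    obtain ⟨r, hr, hobs⟩ := exists_obstruction S hG hx
    obtain ⟨x₁, hx₁⟩ := hn₀ _ r hr ⟨x, hobs⟩
    have hiter : ∀ t, ∀ i, OnM f (n₀ + t + 2) (a i) ((G (n₀ + t + 1) i : K) *
        (algebraMap A K f ^ t * x₁) - algebraMap A K f ^ (n₀ + t + 1) * r i) := by
      intro t
      induction t with
      | zero => intro i; simpa using hx₁ i
      | succ t ih =>
        intro i
        obtain ⟨s, hs⟩ := hG.cong (n₀ + t + 1) i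
        refine (ih i).f_mul.congr (d := (G (n₀ + t + 1) i : K) * s * (algebraMap A K f ^ t * x₁)) ?_
        rw [show n₀ + (t + 1) + 1 = n₀ + t + 1 + 1 by omega, hs]
        ring
    refine ⟨x - algebraMap A K f ^ (m + 1) * x₁, fun i => ?_, -x₁, by ring⟩
    have h1 := hiter (m + 1) i
    rw [show n₀ + (m + 1) + 1 = n₀ + 1 + m + 1 by omega,
      show n₀ + (m + 1) + 2 = n₀ + 1 + m + 2 by omega] at h1
    have h2 := (hobs i).sub h1
    rw [show n₀ + 1 + (m + 1) = n₀ + 1 + m + 1 by omega]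
    convert h2 using 1
    ring
  choose next hnext d hd using step
  let seq : ∀ m : ℕ, {x : K // IsSec f a G (n₀ + 1 + m) x} := fun m =>
    Nat.rec ⟨x₀, hx₀⟩ (fun m x => ⟨next m x.1 x.2, hnext m x.1 x.2⟩) m
  have down : ∀ t m (x : K), IsSec f a G (t + m) x → IsSec f a G m x := by
    intro t
    induction t with
    | zero => intro m x h; rwa [zero_add] at h
    | succ t ih =>
      intro m x h
      rw [Nat.add_right_comm] at h
      exact ih m x (h.pred hG)
  exact ⟨L, fun m => (seq m).1, fun m => down _ _ _ (seq m).2,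
    fun m => ⟨d m (seq m).1 (seq m).2, hd m (seq m).1 (seq m).2⟩, d₀, hd₀⟩

/-- Finiteness of cocycles modulo coboundaries. -/
theorem cocycle_fg [IsNoetherianRing A] [Finite ι] (hG : FormalLine f a G)
    (hg : GlobalK f a K) (h1 : H1K f a K) (o : ι) :
    ∃ N : Submodule A (ι → K), N.FG ∧ Cocycle f a G ≤ N ⊔ Cobound f a G := by
  have := Fintype.ofFinite ι
  let φ := algebraMap A K
  choose u hu e he using hG.compat 0
  obtain ⟨L, z, hz⟩ := exists_uniform (fun t : ι × ι => a t.1 * a t.2) (fun t => u t.1 t.2)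
    fun t => hu t.1 t.2
  let w : ι → Kˣ := fun t => ((S.isUnit_a (K := K) t).pow L).unit * G 0 t
  have hw : ∀ i t, OnM f 1 (a i) ((↑(w t * (G 0 i)⁻¹) : K)) := fun i t => by
    refine ⟨algebraMap A K (a t) ^ L * u t i, ⟨L, z (t, i), ?_⟩, algebraMap A K (a t) ^ L * e t i, ?_⟩
    · rw [← hz (t, i), map_mul]; ring
    · have := he t i
      simp only [Units.val_mul] at this
      simp only [w, Units.val_mul, IsUnit.unit_spec, zero_add] at this ⊢
      linear_combination algebraMap A K (a t) ^ L * this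
  let cI : Submodule A K := LinearMap.range (LinearMap.mulLeft A (φ f))
  let P' : Submodule A ((ι → K) × (ι → K)) :=
    { carrier := {v | v.1 ∈ Cocycle f a G ∧ ∀ t i, OnM f 1 (a i) (v.1 i * (↑(w t * (G 0 i)⁻¹) : K) - v.2 t)}
      add_mem' := fun {v v'} h h' => ⟨add_mem h.1 h'.1, fun t i => by
        convert (h.2 t i).add (h'.2 t i) using 1
        simp only [Prod.fst_add, Prod.snd_add, Pi.add_apply]; ring⟩
      zero_mem' := ⟨zero_mem _, fun t i => by simp [OnM.zero]⟩
      smul_mem' := fun c v h => ⟨Submodule.smul_mem _ c h.1, fun t i => by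
        convert (h.2 t i).smul c using 1
        simp only [Prod.smul_fst, Prod.smul_snd, Pi.smul_apply, smul_sub, smul_mul_assoc]⟩ }
  have hsurj : ∀ r ∈ Cocycle f a G, ∃ Y, (r, Y) ∈ P' := by
    intro r hr
    have hc : ∀ t, ∃ Y : K, ∀ i, OnM f 1 (a i) (r i * (↑(w t * (G 0 i)⁻¹) : K) - Y) := by
      intro t
      have hcc : ∀ i j, OnM f 1 (a i * a j)
          (r j * (↑(w t * (G 0 j)⁻¹) : K) - r i * (↑(w t * (G 0 i)⁻¹) : K)) := fun i j => by
        have := ((hr i j).mul ((hw i t).dvd (dvd_mul_right _ (a j)))).neg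
        convert this using 1
        simp only [Units.val_mul]
        have h3 := (G 0 i).mul_inv
        linear_combination -(↑(w t) * ↑(G 0 j)⁻¹ * r j) * h3
      choose c hcm q hq using hcc
      simp only [pow_one] at hq
      obtain ⟨v, hv, hvc⟩ := h1 c hcm fun i j l => ⟨q i l - q j l - q i j, by
        linear_combination -hq j l + hq i l - hq i j⟩
      refine ⟨r o * (↑(w t * (G 0 o)⁻¹) : K) - v o, fun i => ?_⟩
      obtain ⟨p, hp⟩ := hvc o i
      exact ⟨v i, hv i, p + q o i, by linear_combination hq o i + hp⟩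
    choose Y hY using hc
    exact ⟨Y, hr, hY⟩
  let ws : Kˣ := ((S.isUnit_a (K := K) o).pow L).unit * (G 0 o)⁻¹
  let Z : ((ι → K) × (ι → K)) →ₗ[A] (ι → K ⧸ cI) := LinearMap.pi fun t => cI.mkQ ∘ₗ
      (LinearMap.mulLeft A ((↑ws : K)) ∘ₗ
        ((LinearMap.mulLeft A (↑(w o) : K)) ∘ₗ (LinearMap.proj t) ∘ₗ LinearMap.snd A _ _ -
          (LinearMap.mulLeft A (↑(w t) : K)) ∘ₗ (LinearMap.proj o) ∘ₗ LinearMap.snd A _ _))
  have hZapp : ∀ v t, Z v t = cI.mkQ ((↑ws : K) * ((↑(w o) : K) * v.2 t - (↑(w t) : K) * v.2 o)) :=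
    fun v t => rfl
  let Γ : Submodule A (K ⧸ cI) := LinearMap.range (cI.mkQ ∘ₗ Algebra.linearMap A K)
  have hrange : P'.map Z ≤ Submodule.pi Set.univ fun _ => Γ := by
    rintro _ ⟨⟨r, Y⟩, ⟨hr, hY⟩, rfl⟩ t -
    have hglob : ∀ i, OnM f 1 (a i) ((↑ws : K) * ((↑(w o) : K) * Y t - (↑(w t) : K) * Y o)) := by
      intro i
      have hinv : OnM f 1 (a i) ((↑(ws * G 0 i) : K)) := by
        refine ⟨algebraMap A K (a o) ^ L * u i o, ⟨L, z (i, o), ?_⟩, algebraMap A K (a o) ^ L * e i o, ?_⟩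
        · rw [← hz (i, o), map_mul]; ring
        · have := he i o
          simp only [Units.val_mul] at this
          simp only [ws, Units.val_mul, IsUnit.unit_spec, zero_add] at this ⊢
          linear_combination algebraMap A K (a o) ^ L * this
      have h2 := ((hY t i).mul ((hw i o))).sub ((hY o i).mul (hw i t))
      have h3 := (hinv.mul h2).neg
      convert h3 using 1
      simp only [Units.val_mul]
      have e3 := (G 0 i).mul_inv
      linear_combination -((↑ws : K) * (↑(w o) * Y t - ↑(w t) * Y o)) * e3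
    obtain ⟨x, p, hp⟩ := hg _ hglob
    refine ⟨x, ?_⟩
    rw [hZapp]
    change cI.mkQ (φ x) = _
    rw [Submodule.mkQ_apply, Submodule.mkQ_apply, eq_comm, Submodule.Quotient.eq]
    exact ⟨p, by
      change φ f * p = _
      rw [hp]; ring⟩
  have hfgZ : (P'.map Z).FG := by
    have : Module.Finite A Γ := Module.Finite.range _
    have : IsNoetherian A Γ := isNoetherian_of_isNoetherianRing_of_finite A Γ
    let emb : P'.map Z →ₗ[A] (ι → Γ) := LinearMap.pi fun t =>
      ((LinearMap.proj t).comp (P'.map Z).subtype).codRestrict Γ fun v => hrange v.2 t trivial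
    have hemb : Function.Injective emb := fun v v' h => Subtype.ext (funext fun t =>
      congrArg Subtype.val (congrFun h t))
    exact Module.Finite.iff_fg.mp (Module.Finite.of_injective emb hemb)
  obtain ⟨s, hs⟩ := hfgZ
  have hpre : ∀ v ∈ (s : Set (ι → K ⧸ cI)), ∃ p ∈ P', Z p = v := fun v hv =>
    Submodule.mem_map.mp (hs ▸ Submodule.subset_span hv)
  choose! pre hpre₁ hpre₂ using hpre
  refine ⟨Submodule.span A ((fun v => (pre v).1) '' s), Submodule.fg_span (s.finite_toSet.image _),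
    fun r hr => ?_⟩
  obtain ⟨Y, hY⟩ := hsurj r hr
  have hZ : Z (r, Y) ∈ Submodule.span A (s : Set (ι → K ⧸ cI)) := hs ▸ Submodule.mem_map_of_mem hY
  have him : Z '' (pre '' s) = s := by
    ext v
    constructor
    · rintro ⟨_, ⟨v', hv', rfl⟩, rfl⟩; rwa [hpre₂ v' hv']
    · exact fun hv => ⟨pre v, ⟨v, hv, rfl⟩, hpre₂ v hv⟩
  rw [← him, ← Submodule.map_span] at hZ
  obtain ⟨p, hp, hpZ⟩ := hZ
  have hpP : p ∈ P' := Submodule.span_le.mpr (by rintro _ ⟨v, hv, rfl⟩; exact hpre₁ v hv) hp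
  obtain ⟨hq1, hq2⟩ := sub_mem hY hpP
  set q := ((r, Y) : (ι → K) × (ι → K)) - p with hq
  have hker : ∀ t, Z q t = 0 := fun t => by rw [hq, map_sub, hpZ, sub_self]; rfl
  refine Submodule.mem_sup.mpr ⟨p.1, ?_, q.1, ⟨(↑(w o)⁻¹ : K) * q.2 o, fun i => ?_⟩, ?_⟩
  · have : p.1 ∈ (Submodule.span A (pre '' (s : Set (ι → K ⧸ cI)))).map (LinearMap.fst A _ _) :=
      Submodule.mem_map_of_mem hp
    rwa [Submodule.map_span, ← Set.image_comp] at this
  · have hk := hker i
    rw [hZapp, Submodule.mkQ_apply, Submodule.Quotient.mk_eq_zero] at hk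
    obtain ⟨c, hc⟩ := hk
    change φ f * c = _ at hc
    refine S.onM_of_pow_mul (i := i) dvd_rfl (l := L) ?_
    refine (hq2 i i).congr (d := (↑ws⁻¹ : K) * (↑(w o)⁻¹ : K) * c) ?_
    have h1' := (w o).inv_mul
    have h2' := ws.inv_mul
    have h3 := (G 0 i).mul_inv
    have hwi : (↑(w i) : K) = algebraMap A K (a i) ^ L * (G 0 i : K) := by
      simp [w, Units.val_mul]
    simp only [φ] at hc
    simp only [Units.val_mul, pow_one] at *
    linear_combination -((↑(w o)⁻¹ : K) * (↑ws⁻¹ : K)) * hc - q.2 i * h1' -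
      ((↑(w o)⁻¹ : K) * ↑(w o) * q.2 i - (↑(w o)⁻¹ : K) * ↑(w i) * q.2 o) * h2' +
      ((↑(w o)⁻¹ : K) * q.2 o - ↑(G 0 i)⁻¹ * q.1 i) * hwi - algebraMap A K (a i) ^ L * q.1 i * h3
  · exact add_sub_cancel p.1 r

end Groth.Agent.H80.Divisor
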