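import Groth.Agent.H80.Divisor.Para
import Mathlib.RingTheory.Ideal.AssociatedPrime.Finiteness

/-!
# Parafactoriality passes to a hypersurface section
-/

set_option autoImplicit false

universe u

open IsLocalRing

namespace Groth.Agent.H80.Divisor

open Groth.Agent.H80.Clopen

/-- A chart of a locally principal ideal. -/
theorem exists_chart {B : Type u} [CommRing B] [IsNoetherianRing B] [IsLocalRing B] (I : Ideal B)
    (p : Ideal B) [p.IsPrime] (hpm : p ≠ maximalIdeal B)
    (hx : ∃ x ∈ maximalIdeal B, IsSMulRegular B x) (hp : LocPrinAt I p) {r : B} (hr : r ∈ I) (hreg : IsSMulRegular B r) :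
    ∃ e b : B, e ∈ I ∧ IsSMulRegular B e ∧ IsSMulRegular B b ∧ b ∉ p ∧ b ∈ maximalIdeal B ∧
      ∀ z ∈ I, b * z ∈ Ideal.span {e} := by
  classical
  obtain ⟨Ass, hAss⟩ := (associatedPrimes.finite B B).exists_finset_coe
  have hbu := biUnion_associatedPrimes_eq_compl_regular B B
  have regof : ∀ x : B, (∀ Q ∈ associatedPrimes B B, x ∉ Q) → IsSMulRegular B x := fun x hx => by
    by_contra h
    have : x ∈ ⋃ Q ∈ associatedPrimes B B, (Q : Set B) := hbu.ge h
    obtain ⟨Q, hQ, hxQ⟩ := Set.mem_iUnion₂.mp this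
    exact hx Q hQ hxQ
  have notmem : ∀ {x : B}, IsSMulRegular B x → ∀ Q ∈ associatedPrimes B B, x ∉ Q := fun hx Q hQ hxQ =>
    (hbu.le (Set.mem_iUnion₂.mpr ⟨Q, hQ, hxQ⟩) : _) hx
  have hAssp : ∀ Q ∈ Ass, Q.IsPrime := fun Q hQ => IsAssociatedPrime.isPrime (hAss.le (Finset.mem_coe.mpr hQ))
  obtain ⟨x, hxm, hxreg⟩ := hx
  by_cases hcase : ∃ Q ∈ Ass, p ≤ Q
  · obtain ⟨Q, hQ, hpQ⟩ := hcase
    have hQA := hAss.le (Finset.mem_coe.mpr hQ)
    exact ⟨r, r * x, hr, hreg, hreg.mul hxreg,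
      fun h => ((hAssp Q hQ).mem_or_mem (hpQ h)).elim (notmem hreg Q hQA) (notmem hxreg Q hQA),
      Ideal.mul_mem_left _ _ hxm,
      fun z _ => Ideal.mul_mem_right _ _ (Ideal.mul_mem_right _ _ (Ideal.mem_span_singleton_self r))⟩
  push Not at hcase
  obtain ⟨e₀, he₀, hloc⟩ := hp
  let Bad : Finset (Ideal B) := Ass.filter fun Q => e₀ ∈ Q
  let Keep : Finset (Ideal B) := Ass.filter fun Q => e₀ ∉ Q ∧ ∀ Q' ∈ Bad, ¬ Q ≤ Q'
  let J : Ideal B := p * ∏ Q ∈ Keep, Q
  obtain ⟨c, hc, hcBad⟩ : ∃ c ∈ J, ∀ Q ∈ Bad, c ∉ Q := by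
    by_contra h
    push Not at h
    have hsub : (J : Set B) ⊆ ⋃ Q ∈ (↑Bad : Set (Ideal B)), (Q : Set B) := fun c hc => by
      obtain ⟨Q, hQ, hcQ⟩ := h c hc
      exact Set.mem_iUnion₂.mpr ⟨Q, hQ, hcQ⟩
    obtain ⟨Q, hQ, hJQ⟩ := (Ideal.subset_union_prime (s := Bad) (f := id) ⊥ ⊥
      fun Q hQ _ _ => hAssp Q (Finset.mem_filter.mp hQ).1).mp (by simpa using hsub)
    have := hAssp Q (Finset.mem_filter.mp hQ).1
    rcases (Ideal.IsPrime.mul_le this).mp hJQ with h1 | h1
    · exact hcase Q (Finset.mem_filter.mp hQ).1 h1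
    · obtain ⟨Q', hQ', h2⟩ := (Ideal.IsPrime.prod_le this).mp h1
      exact (Finset.mem_filter.mp hQ').2.2 Q hQ h2
  let e := e₀ + c * r
  have he : e ∈ I := add_mem he₀ (I.mul_mem_left c hr)
  have heQ : ∀ Q ∈ Ass, e ∉ Q := by
    have hBad : ∀ Q ∈ Bad, e ∉ Q := fun Q hQ h => by
      obtain ⟨hQA, he0Q⟩ := Finset.mem_filter.mp hQ
      exact ((hAssp Q hQA).mem_or_mem (show c * r ∈ Q by simpa [e] using sub_mem h he0Q)).elim
        (hcBad Q hQ) (notmem hreg Q (hAss.le (Finset.mem_coe.mpr hQA)))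
    intro Q hQ heq
    by_cases h0 : e₀ ∈ Q
    · exact hBad Q (Finset.mem_filter.mpr ⟨hQ, h0⟩) heq
    by_cases h1 : ∃ Q' ∈ Bad, Q ≤ Q'
    · obtain ⟨Q', hQ', hle⟩ := h1
      exact hBad Q' hQ' (hle heq)
    push Not at h1
    have hcQ : c ∈ Q := by
      have hK : Q ∈ Keep := Finset.mem_filter.mpr ⟨hQ, h0, h1⟩
      exact Ideal.le_of_dvd (dvd_mul_of_dvd_right (Finset.dvd_prod_of_mem _ hK) p) hc
    exact h0 (by simpa [e] using sub_mem heq (Q.mul_mem_right r hcQ))
  have hereg : IsSMulRegular B e := regof e fun Q hQ => heQ Q (Finset.mem_coe.mp (hAss.ge hQ))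
  let W : Ideal B :=
    { carrier := {b | ∀ z ∈ I, b * z ∈ Ideal.span {e}}
      add_mem' := fun {x y} hx hy z hz => by rw [add_mul]; exact add_mem (hx z hz) (hy z hz)
      zero_mem' := fun z _ => by simp
      smul_mem' := fun x y hy z hz => by
        rw [smul_eq_mul, mul_assoc]; exact Ideal.mul_mem_left _ _ (hy z hz) }
  obtain ⟨s, hs, hsI⟩ := exists_common_notMem (IsNoetherian.noetherian I) hloc
  obtain ⟨d, hd⟩ := Ideal.mem_span_singleton'.mp (hsI r hr)
  have hWp : ¬ W ≤ p := fun hW => by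
    have hmem : s * (s + c * d) ∈ W := fun z hz => by
      obtain ⟨k, hk⟩ := Ideal.mem_span_singleton'.mp (hsI z hz)
      refine Ideal.mem_span_singleton'.mpr ⟨s * k, ?_⟩
      simp only [e]
      linear_combination (s + c * d) * hk - c * k * hd
    rcases (Ideal.IsPrime.mem_or_mem ‹p.IsPrime› (hW hmem)) with h | h
    · exact hs h
    · have hcp : c ∈ p := Ideal.le_of_dvd (dvd_mul_right p (∏ Q ∈ Keep, Q)) hc
      exact hs (by simpa using sub_mem h (p.mul_mem_right d hcp))
  obtain ⟨b, hb, hbp, hbQ⟩ : ∃ b ∈ W * maximalIdeal B, b ∉ p ∧ ∀ Q ∈ Ass, b ∉ Q := by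
    by_contra h
    push Not at h
    have hsub : ((W * maximalIdeal B : Ideal B) : Set B) ⊆ ⋃ Q ∈ (↑(insert p Ass) : Set (Ideal B)), (Q : Set B) := fun b hb => by
      by_cases hbp : b ∈ p
      · exact Set.mem_iUnion₂.mpr ⟨p, by simp, hbp⟩
      · obtain ⟨Q, hQ, hbQ⟩ := h b hb hbp
        exact Set.mem_iUnion₂.mpr ⟨Q, by simp [hQ], hbQ⟩
    obtain ⟨Q, hQ, hWQ⟩ := (Ideal.subset_union_prime (s := insert p Ass) (f := id) ⊥ ⊥
      fun Q hQ _ _ => by
        rcases Finset.mem_insert.mp hQ with h | hQ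
        · exact h ▸ ‹p.IsPrime›
        · exact hAssp Q hQ).mp (by simpa using hsub)
    rcases Finset.mem_insert.mp hQ with h | hQ
    · rcases (Ideal.IsPrime.mul_le ‹p.IsPrime›).mp (h ▸ hWQ) with h | h
      · exact hWp h
      · exact hpm ((le_maximalIdeal (Ideal.IsPrime.ne_top ‹_›)).antisymm h)
    · rcases (Ideal.IsPrime.mul_le (hAssp Q hQ)).mp hWQ with h | h
      · exact heQ Q hQ (h (fun z _ => Ideal.mul_mem_right _ _ (Ideal.mem_span_singleton_self e)))
      · exact notmem hxreg Q (hAss.le (Finset.mem_coe.mpr hQ)) (h hxm)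
  exact ⟨e, b, he, hereg, regof b fun Q hQ => hbQ Q (Finset.mem_coe.mp (hAss.ge hQ)), hbp, Ideal.mul_le_right hb, Ideal.mul_le_left hb⟩

variable {A : Type u} [CommRing A] [IsNoetherianRing A] [IsLocalRing A]

set_option maxHeartbeats 1000000 in
/-- Parafactoriality passes to a hypersurface section of depth at least four. -/
theorem idealPara_quotient (f : A) (hf : f ∈ maximalIdeal A) (hfreg : IsSMulRegular A f)
    [IsAdicComplete (Ideal.span {f}) A] [IsLocalRing (A ⧸ Ideal.span {f})]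
    (hd : (4 : ℕ∞) ≤ LocCoh.depth (A ⧸ Ideal.span {f}) (A ⧸ Ideal.span {f}))
    (hbad : ∀ q : Ideal A, [q.IsPrime] → f ∉ q → q ≠ maximalIdeal A →
      (∀ p : Ideal A, p.IsPrime → q < p → p = maximalIdeal A) → IdealPara (Localization.AtPrime q))
    (hA : IdealPara A) : IdealPara (A ⧸ Ideal.span {f}) := by
  classical
  intro I hI hIreg hsat
  obtain ⟨r, hr, hrreg⟩ := hIreg
  let B := A ⧸ Ideal.span {f}
  let π : A →+* B := Ideal.Quotient.mk (Ideal.span {f})
  have hπ : Function.Surjective π := Ideal.Quotient.mk_surjective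
  have hπz : ∀ {x : A}, π x = 0 ↔ f ∣ x := fun {x} =>
    Ideal.Quotient.eq_zero_iff_mem.trans Ideal.mem_span_singleton
  -- charts
  have hxB : ∃ x ∈ maximalIdeal B, IsSMulRegular B x := by
    obtain ⟨rs, hlen, hmem, hreg⟩ := (Lib.Depth.Basic.le_depth_iff 4).mp hd
    match rs, hlen with
    | x :: _, _ => exact ⟨x, hmem x (by simp), by simpa using hreg.toIsWeaklyRegular.regular_mod_prev 0 (by simp) |> fun h => ((RingTheory.Sequence.isWeaklyRegular_cons_iff _ _ _).mp hreg.toIsWeaklyRegular).1⟩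
  choose! e₀ b₀ he₀ hereg₀ hbreg₀ hbp₀ hbm₀ hb₀ using fun (p : Ideal B) (h : p.IsPrime ∧ p ≠ maximalIdeal B) =>
    have := h.1; exists_chart I p h.2 hxB (hI p h.1 h.2) hr hrreg
  let P := {p : Ideal B | p.IsPrime ∧ p ≠ maximalIdeal B}
  obtain ⟨F, hF, hFspan⟩ := (Submodule.fg_span_iff_fg_span_finset_subset (R := B) (b₀ '' P)).mp
    (IsNoetherian.noetherian _)
  obtain ⟨F', hF', rfl⟩ := Finset.subset_set_image_iff.mp hF
  let nn := F'.card
  let idx : Fin nn → F' := F'.equivFin.symm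
  choose α hα using fun i => hπ (b₀ (idx i).1)
  choose η hη using fun i => hπ (e₀ (idx i).1)
  let T : Submonoid A :=
    { carrier := {t | ∀ x, f ∣ t * x → f ∣ x}
      mul_mem' := fun {s t} hs ht x hx => ht x (hs _ (by rwa [← mul_assoc]))
      one_mem' := fun x hx => by simpa using hx }
  have hTof : ∀ t : A, IsSMulRegular B (π t) → t ∈ T := fun t ht x hx => by
    rw [← hπz] at hx ⊢
    exact ht.right_eq_zero_of_smul (by rwa [map_mul] at hx)
  have hmemP : ∀ i, (idx i).1 ∈ P := fun i => hF' (idx i).2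
  have hαT : ∀ i, α i ∈ T := fun i => hTof _ (hα i ▸ hbreg₀ _ (hmemP i))
  have hηT : ∀ i, η i ∈ T := fun i => hTof _ (hη i ▸ hereg₀ _ (hmemP i))
  have hηI : ∀ i, π (η i) ∈ I := fun i => hη i ▸ he₀ _ (hmemP i)
  have hαm : ∀ i, α i ∈ maximalIdeal A := fun i => by
    have := hbm₀ _ (hmemP i)
    rw [← hα i, mem_maximalIdeal, mem_nonunits_iff] at this
    exact fun hu => this (hu.map π)
  have hchart : ∀ i, ∀ z ∈ I, π (α i) * z ∈ Ideal.span {π (η i)} := fun i z hz => by
    rw [hα, hη]; exact hb₀ _ (hmemP i) z hz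
  have hcov : ∀ p : Ideal B, p.IsPrime → p ≠ maximalIdeal B → ∃ i, π (α i) ∉ p := fun p hp hpm => by
    by_contra h
    push Not at h
    refine hbp₀ p ⟨hp, hpm⟩ ((Submodule.span_le (p := p)).mpr ?_
      (hFspan.le (Submodule.subset_span ⟨p, ⟨hp, hpm⟩, rfl⟩)))
    intro x hx
    rw [Finset.coe_image] at hx
    obtain ⟨Q, hQ, rfl⟩ := hx
    have := h (F'.equivFin ⟨Q, Finset.mem_coe.mp hQ⟩)
    rw [hα] at this
    simpa [idx] using this
  have hprime : ∀ {P : Ideal A} (_ : P.IsPrime), f ∈ P → P ≠ maximalIdeal A → ∃ i, α i ∉ P := by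
    intro P hP hfP hPm
    have hker : RingHom.ker π ≤ P := by
      rw [Ideal.mk_ker]; exact (Ideal.span_singleton_le_iff_mem _).mpr hfP
    have hPp := Ideal.map_isPrime_of_surjective (f := π) hπ hker
    have hcm : (P.map π).comap π = P := by
      rw [Ideal.comap_map_of_surjective π hπ, ← RingHom.ker_eq_comap_bot]
      exact sup_eq_left.mpr hker
    have : IsLocalHom π := IsLocalHom.of_surjective π hπ
    obtain ⟨i, hi⟩ := hcov _ hPp (fun h => hPm (by
      rw [← hcm, h]
      exact (IsLocalRing.maximalIdeal_comap π)))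
    exact ⟨i, fun h => hi (Ideal.mem_map_of_mem π h)⟩
  have hha : maximalIdeal A ≤ (Ideal.span (Set.range α) ⊔ Ideal.span {f}).radical := by
    rw [Ideal.radical_eq_sInf]
    refine le_sInf fun P ⟨hle, hP⟩ => ?_
    by_contra hne
    obtain ⟨i, hi⟩ := hprime hP (hle (Submodule.mem_sup_right (Ideal.mem_span_singleton_self f)))
      (fun h => hne h.ge)
    exact hi (hle (Submodule.mem_sup_left (Ideal.subset_span ⟨i, rfl⟩)))
  obtain ⟨hsep, hglue, h1, h2⟩ := setup_of_depth_four (Ideal.span {f}) hd α hha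
  have hne : Nonempty (Fin nn) := by
    by_contra hemp
    rw [not_nonempty_iff] at hemp
    have : (1 : A) ∈ Ideal.span {f} := mem_smul_top_self.mp (hsep 1 fun i => isEmptyElim i)
    rw [Ideal.mem_span_singleton] at this
    exact hf (isUnit_of_dvd_one this)
  let K := Localization T
  let φ := algebraMap A K
  have S : Setup f α T :=
    { f_reg := fun x hx => hfreg.right_eq_zero_of_smul hx
      a_mem := hαT
      add_mem := fun t ht z x hx => ht x (by
        rw [add_mul, mul_assoc] at hx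
        exact (dvd_add_left (dvd_mul_right f _)).mp hx)
      tors := fun t ht x hx i => ⟨0, by simpa using ht x hx⟩ }
  have hG := globalK_of_glue (K := K) S hglue
  have hH1 := h1K_of_h1Ord (K := K) S h1
  let g : Fin nn → Kˣ := fun i => (IsLocalization.map_units K (⟨η i, hηT i⟩ : T)).unit
  have hg : ∀ i, (g i : K) = φ (η i) := fun i => IsUnit.unit_spec _
  have hc1 : Compat' f α 1 g := fun i j => by
    obtain ⟨c, hc⟩ := Ideal.mem_span_singleton'.mp (hchart j _ (hηI i))
    obtain ⟨c, rfl⟩ := hπ c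
    have h3 : f ∣ c * η j - α j * η i := hπz.mp (by rw [map_sub, map_mul, map_mul, hc, sub_self])
    obtain ⟨w, hw⟩ := h3
    refine (OnM.dvd (dvd_mul_left (α j) (α i)) (S.onM_of_pow_mul (i := j) dvd_rfl (l := 1)
      ⟨φ c, (Loc K _).algebraMap_mem c, -(φ w * ↑(g j)⁻¹), ?_⟩))
    have h4 := congrArg φ hw
    simp only [map_sub, map_mul, ← hg] at h4
    have e := (g j).inv_mul
    simp only [Units.val_mul, pow_one]
    simp only [φ] at *
    linear_combination (-(↑(g j)⁻¹ : K)) * h4 + algebraMap A K c * e * (1 : K) - 0 * hg j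
  obtain ⟨G, hG0, hGc, hGg⟩ := exists_formal S (h2K_of_h2Ord (K := K) S h2) g hc1
  have hGL : FormalLine f α G := ⟨hGc, hGg⟩
  obtain ⟨o⟩ := hne
  obtain ⟨𝔞, X₀, -, hloc⟩ := exists_ideal S hGL hsep hG hH1 o
  have hdvd : ∀ {x : A}, (∃ w : K, φ x = φ f * w) → f ∣ x := fun {x} ⟨w, hw⟩ => by
    simpa using pow_dvd_of_mul S hsep (K := K) (n := 1) (z := x) (r := w) (by simpa using hw)
  have hcancel : ∀ {x : A}, φ x = 0 → x = 0 := fun {x} hx => by
    refine IsHausdorff.haus (I := Ideal.span {f}) inferInstance x fun n => ?_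
    rw [SModEq.zero, Ideal.span_singleton_pow, mem_smul_top_self, Ideal.mem_span_singleton]
    exact pow_dvd_of_mul S hsep (K := K) (n := n) (r := 0) (by simpa using hx)
  choose L e he hre hlocz using hloc
  have hgood : ∀ P : Ideal A, P.IsPrime → f ∈ P → P ≠ maximalIdeal A →
      ∀ k, α k ∉ P → ∀ z ∈ 𝔞, ∃ s ∉ P, s * z ∈ Ideal.span {e k} := by
    intro P hP hfP hPm k hk z hz
    let R := Localization.AtPrime P
    let M := 𝔞.map (algebraMap A R)
    let E := Ideal.span {algebraMap A R (e k)}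
    have hle : M ≤ E ⊔ Ideal.span {algebraMap A R f} • M := by
      rw [smul_eq_mul]
      refine Ideal.map_le_iff_le_comap.mpr fun w hw => ?_
      obtain ⟨N, hN⟩ := hlocz k w hw
      have h3 := Ideal.mem_map_of_mem (algebraMap A R) hN
      rw [Ideal.map_sup, Ideal.map_mul, Ideal.map_span, Ideal.map_span, Set.image_singleton,
        Set.image_singleton, map_mul] at h3
      rw [map_pow] at h3
      exact (Ideal.unit_mul_mem_iff_mem _
        ((IsLocalization.map_units R (⟨α k, hk⟩ : P.primeCompl)).pow N)).mp h3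
    have h4 : M ≤ E := Submodule.le_of_le_smul_of_le_jacobson_bot
      (I := Ideal.span {algebraMap A R f}) (IsNoetherian.noetherian M) (by
        rw [IsLocalRing.jacobson_eq_maximalIdeal ⊥ bot_ne_top, Ideal.span_singleton_le_iff_mem]
        exact (IsLocalization.AtPrime.to_map_mem_maximal_iff R P f).mpr hfP) hle
    obtain ⟨c, hc⟩ := Ideal.mem_span_singleton'.mp (h4 (Ideal.mem_map_of_mem _ hz))
    obtain ⟨⟨c', t⟩, hc'⟩ := IsLocalization.surj P.primeCompl c
    have h5 : algebraMap A R ((t : A) * z) = algebraMap A R (c' * e k) := by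
      rw [map_mul, map_mul, ← hc', ← hc]; ring
    obtain ⟨u, hu⟩ := (IsLocalization.eq_iff_exists P.primeCompl R).mp h5
    refine ⟨u * t, (u * t).2, ?_⟩
    rw [mul_assoc, hu, ← mul_assoc]
    exact Ideal.mul_mem_left _ _ (Ideal.mem_span_singleton_self _)
  obtain ⟨𝔟, hab, hbsat, hbloc, hba⟩ := exists_saturation f hf 𝔞
    (fun P hP hfP hPm => by
      obtain ⟨k, hk⟩ := hprime hP hfP hPm
      exact ⟨e k, he k, hgood P hP hfP hPm k hk⟩)
    ⟨e o, he o, by
      obtain ⟨w, hw⟩ := hre o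
      have hu : IsUnit (φ (e o)) := hw ▸ S.isUnit_add
        ((((S.isUnit_a o).pow _).mul (Units.isUnit _)).mul (Units.isUnit _)) w
      rw [isSMulRegular_iff_right_eq_zero_of_smul]
      intro x hx
      exact hcancel (hu.mul_right_eq_zero.mp (by rw [← map_mul]; simp only [smul_eq_mul] at hx; rw [hx, map_zero]))⟩
    hbad
  obtain ⟨r₁, hr₁, hr₁reg⟩ : ∃ r₁ ∈ 𝔟, IsSMulRegular A r₁ := ⟨e o, hab (he o), by
      obtain ⟨w, hw⟩ := hre o
      have hu : IsUnit (φ (e o)) := hw ▸ S.isUnit_add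
        ((((S.isUnit_a o).pow _).mul (Units.isUnit _)).mul (Units.isUnit _)) w
      rw [isSMulRegular_iff_right_eq_zero_of_smul]
      intro x hx
      exact hcancel (hu.mul_right_eq_zero.mp (by rw [← map_mul]; simp only [smul_eq_mul] at hx; rw [hx, map_zero]))⟩
  obtain ⟨e', he'⟩ := (hA 𝔟 hbloc ⟨r₁, hr₁, hr₁reg⟩ hbsat).principal
  change 𝔟 = Ideal.span {e'} at he'
  obtain ⟨y, hy⟩ := exists_trivial S (G := G) (X₀ := X₀) (e' := e') (fun k => by
    obtain ⟨c, hc⟩ := Ideal.mem_span_singleton'.mp (he' ▸ hab (he k) : e k ∈ Ideal.span {e'})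
    let C : Ideal A := Submodule.comap (LinearMap.mulRight A e') (Ideal.span {e k} ⊔ Ideal.span {f})
    have hrad : α k ∈ C.radical := by
      rw [Ideal.radical_eq_sInf, Submodule.mem_sInf]
      rintro P ⟨hCP, hP⟩
      by_contra hk
      have hfP : f ∈ P := hCP (show f * e' ∈ _ from
        Submodule.mem_sup_right (Ideal.mul_mem_right _ _ (Ideal.mem_span_singleton_self f)))
      have hPm : P ≠ maximalIdeal A := fun h => hk (by
        rw [h]
        exact hαm k)
      obtain ⟨s, hs, hse⟩ := hba P hP hfP hPm e' (he' ▸ Ideal.mem_span_singleton_self e')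
      obtain ⟨t, ht, hte⟩ := hgood P hP hfP hPm k hk _ hse
      exact (hP.mem_or_mem (hCP (show (t * s) * e' ∈ Ideal.span {e k} ⊔ Ideal.span {f} from
        Submodule.mem_sup_left (by rwa [mul_assoc]) : t * s ∈ C))).elim ht hs
    obtain ⟨N, hN⟩ := hrad
    obtain ⟨_, hu, _, hv, huv⟩ := Submodule.mem_sup.mp (show α k ^ N * e' ∈ _ from hN)
    obtain ⟨c', rfl⟩ := Ideal.mem_span_singleton'.mp hu
    refine ⟨L k, 0, N, e k, c, c', hre k, by simp [hc], ?_⟩
    rw [← huv, add_sub_cancel_left]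
    exact Ideal.mem_span_singleton.mp hv) o
  rw [hG0] at hy
  -- a generator of `I`
  have hz : ∀ i, OnM f 1 (α i) (↑y⁻¹ : K) := fun i => by
    have h3 := (OnM.of_mem (f := f) (n := 1) ((Loc K (α i)).algebraMap_mem (η i))).mul (hy i).2
    convert h3 using 1
    simp only [mul_inv_rev, Units.val_mul]
    have e := (g i).mul_inv
    rw [← show (g i : K) = algebraMap A K (η i) from hg i]
    linear_combination -(↑y⁻¹ : K) * e
  obtain ⟨q, w, hq⟩ := hG _ hz
  have hqu : IsUnit (φ q) := by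
    have := S.isUnit_add (y⁻¹).isUnit (-w)
    rwa [hq, mul_neg, add_neg_cancel_right] at this
  have hqI : π q ∈ I := by
    obtain ⟨N, hN⟩ : ∃ N, ∀ i, π (α i) ^ N * π q ∈ I := by
      have hi : ∀ i, ∃ N, π (α i) ^ N * π q ∈ I := fun i => by
        obtain ⟨v, ⟨l, c, hl⟩, w', hw'⟩ := (hy i).2
        refine ⟨l, ?_⟩
        have : f ∣ α i ^ l * q - c * η i := hdvd ⟨φ (α i) ^ l * (φ (η i) * w' - w), by
          have e := (g i).mul_inv
          simp only [mul_inv_rev, Units.val_mul, pow_one] at hw'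
          simp only [map_sub, map_mul, map_pow]
          rw [hg i] at e
          simp only [φ] at *
          linear_combination (-(algebraMap A K (α i) ^ l)) * hq +
            (algebraMap A K (α i) ^ l * algebraMap A K (η i)) * hw' + algebraMap A K (η i) * hl -
            (algebraMap A K (α i) ^ l * (↑y⁻¹ : K)) * e⟩
        rw [← hπz, map_sub, sub_eq_zero, map_mul, map_mul, map_pow] at this
        rw [this]
        exact Ideal.mul_mem_left _ _ (hηI i)
      choose N hN using hi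
      exact ⟨Finset.univ.sup N, fun i => by
        rw [← Nat.sub_add_cancel (Finset.le_sup (f := N) (Finset.mem_univ i)), pow_add, mul_assoc]
        exact Ideal.mul_mem_left _ _ (hN i)⟩
    have hm : maximalIdeal B ≤ (Ideal.span (Set.range fun i => π (α i) ^ N)).radical := by
      rw [Ideal.radical_eq_sInf]
      refine le_sInf fun P ⟨hle, hP⟩ => ?_
      by_contra hne
      obtain ⟨i, hi⟩ := hcov P hP (fun h => hne h.ge)
      exact hi (hP.mem_of_pow_mem _ (hle (Ideal.subset_span ⟨i, rfl⟩)))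
    obtain ⟨M, hM⟩ := Ideal.exists_pow_le_of_le_radical_of_fg hm (IsNoetherian.noetherian _)
    refine hsat.mem_of_pow M _ fun x hx => ?_
    have := hM hx
    clear hx
    induction this using Submodule.span_induction with
    | mem x h => obtain ⟨i, rfl⟩ := h; exact hN i
    | zero => simp
    | add x y _ _ ha hb => rw [add_mul]; exact add_mem ha hb
    | smul c x _ ha => rw [smul_eq_mul, mul_assoc]; exact Ideal.mul_mem_left _ _ ha
  refine ⟨π q, le_antisymm (fun z hzI => ?_) ((Ideal.span_singleton_le_iff_mem _).mpr hqI)⟩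
  obtain ⟨z, rfl⟩ := hπ z
  obtain ⟨d, rd, hd'⟩ := hG (φ z * (y : K)) fun i => by
    obtain ⟨c, hc⟩ := Ideal.mem_span_singleton'.mp (hchart i _ hzI)
    obtain ⟨c, rfl⟩ := hπ c
    obtain ⟨w', hw'⟩ : f ∣ α i * z - c * η i := hπz.mp (by rw [map_sub, map_mul, map_mul, hc, sub_self])
    refine S.onM_of_pow_mul (i := i) dvd_rfl (l := 1)
      (((OnM.of_mem ((Loc K (α i)).algebraMap_mem c)).mul (hy i).1).congr (d := φ w' * y) ?_)
    have h4 := congrArg φ hw'
    simp only [map_sub, map_mul] at h4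
    rw [hg i]
    simp only [φ, pow_one] at *
    linear_combination (y : K) * h4
  change π z ∈ Ideal.span {π q}
  refine Ideal.mem_span_singleton'.mpr ⟨π d, ?_⟩
  obtain ⟨w', hw'⟩ : f ∣ d * q - z := hdvd ⟨-(φ q * rd) - φ z * (y : K) * w, by
    have e := y.mul_inv
    simp only [map_sub, map_mul, φ] at *
    linear_combination (-(algebraMap A K q)) * hd' + (-(algebraMap A K z * (y : K))) * hq +
      algebraMap A K z * e⟩
  rw [← map_mul, ← sub_eq_zero, ← map_sub, hπz]
  exact ⟨w', hw'⟩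

end Groth.Agent.H80.Divisor
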